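import Mathlib

/-!
# Self-normalizing Sylow subgroups (helper712)

`G` finite, `P` a Sylow `p`-subgroup with `N_G(P) = P`.

* `hom_eq_one` : an overgroup `H` of `P` has no nontrivial homomorphism to a `p'`-group;
* `eq_of_isConj` : conjugate elements of `C_G(P)` are equal;
* `index_modEq` : `|G : P| ≡ 1 (mod p)`;
* `quot` : the image of `P` is self-normalizing in every image of an overgroup.
-/

set_option autoImplicit false

open Subgroup

namespace Cfsg.Agent.H712.SelfNorm

variable {G : Type*} [Group G] [Finite G] {p : ℕ} [Fact p.Prime]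

/-- overgroups: Frattini -/
theorem le_of_normal {P : Subgroup G} {H K : Subgroup G} (hPp : IsPGroup p P) (hPi : ¬ p ∣ P.relIndex H)
    (hself : ∀ n ∈ H, (∀ x ∈ P, n * x * n⁻¹ ∈ P) → n ∈ P)
    (hPK : P ≤ K) (hKH : K ≤ H) (hKn : ∀ h ∈ H, ∀ k ∈ K, h * k * h⁻¹ ∈ K) : H ≤ K := by
  intro h hh
  -- `P` is a Sylow subgroup of `K`
  have hPK' : ¬ p ∣ P.relIndex K := fun hd => hPi (hd.trans (Dvd.intro _ (relIndex_mul_relIndex P K H hPK hKH)))
  let Q : Sylow p K := IsPGroup.toSylow (P := P.subgroupOf K) (hPp.comap_subtype) hPK'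
  let φ : K →* K := {
    toFun := fun k => ⟨h * k * h⁻¹, hKn h hh k k.2⟩
    map_one' := by ext; simp
    map_mul' := fun a b => by ext; simp }
  have hφinj : Function.Injective φ := by
    intro a b hab
    have := congrArg Subtype.val hab
    simp only [φ, MonoidHom.coe_mk, OneHom.coe_mk] at this
    exact Subtype.ext (mul_left_cancel (mul_right_cancel this))
  let R : Subgroup K := (Q : Subgroup K).map φ
  have hRp : IsPGroup p R := Q.isPGroup'.map φ
  have hcard : Nat.card R = Nat.card (Q : Subgroup K) := by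
    exact (Nat.card_congr (Subgroup.equivMapOfInjective _ φ hφinj).toEquiv).symm
  have hRi : ¬ p ∣ R.index := by
    intro hd
    have h1 := R.card_mul_index
    have h2 := (Q : Subgroup K).card_mul_index
    rw [hcard, ← h2] at h1
    have h3 : 0 < Nat.card (Q : Subgroup K) := Nat.card_pos
    have h4 := Nat.eq_of_mul_eq_mul_left h3 h1
    rw [h4] at hd
    exact hPK' hd
  let R' : Sylow p K := hRp.toSylow hRi
  obtain ⟨g, hg⟩ := MulAction.exists_smul_eq K R' Q
  have key : ∀ x ∈ P, (g : G) * h * x * ((g : G) * h)⁻¹ ∈ P := by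
    intro x hx
    have h1 : (⟨x, hPK hx⟩ : K) ∈ (Q : Subgroup K) := hx
    have h2 : φ ⟨x, hPK hx⟩ ∈ R' := by
      show _ ∈ R
      exact Subgroup.mem_map_of_mem φ h1
    have h3 : g * φ ⟨x, hPK hx⟩ * g⁻¹ ∈ (Q : Subgroup K) := by
      rw [← hg]
      exact ⟨φ ⟨x, hPK hx⟩, h2, rfl⟩
    have h4 : ((g * φ ⟨x, hPK hx⟩ * g⁻¹ : K) : G) ∈ P := h3
    have h5 : ((g * φ ⟨x, hPK hx⟩ * g⁻¹ : K) : G) = (g : G) * h * x * ((g : G) * h)⁻¹ := by
      simp only [φ, MonoidHom.coe_mk, OneHom.coe_mk, Subgroup.coe_mul, Subgroup.coe_inv]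
      group
    rw [← h5]
    exact h4
  have h6 := hself _ (mul_mem (hKH g.2) hh) key
  have h7 : h = (g : G)⁻¹ * ((g : G) * h) := by group
  rw [h7]
  exact mul_mem (inv_mem g.2) (hPK h6)

/-- An overgroup of a self-normalizing Sylow `p`-subgroup has no nontrivial homomorphism to a `p'`-group. -/
theorem hom_eq_one' {P : Subgroup G} {H : Subgroup G} (hPp : IsPGroup p P) (hPi : ¬ p ∣ P.relIndex H)
    (hself : ∀ n ∈ H, (∀ x ∈ P, n * x * n⁻¹ ∈ P) → n ∈ P) (hPH : P ≤ H)
    {X : Type*} [Group X] [Finite X] (hX : ¬ p ∣ Nat.card X) (f : H →* X) (x : H) : f x = 1 := by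
  have h1 : H ≤ f.ker.map H.subtype := by
    refine le_of_normal hPp hPi hself ?_ (map_subtype_le _) ?_
    · intro y hy
      refine ⟨⟨y, hPH hy⟩, ?_, rfl⟩
      rw [SetLike.mem_coe, MonoidHom.mem_ker]
      obtain ⟨k, hk⟩ := hPp ⟨y, hy⟩
      have hk' : (⟨y, hPH hy⟩ : H) ^ p ^ k = 1 := by
        ext
        have := congrArg Subtype.val hk
        simpa using this
      have h2 : orderOf (f ⟨y, hPH hy⟩) ∣ p ^ k := orderOf_dvd_of_pow_eq_one (by rw [← map_pow, hk', map_one])
      have h3 : orderOf (f ⟨y, hPH hy⟩) ∣ Nat.card X := orderOf_dvd_natCard _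
      obtain ⟨j, -, hj⟩ := (Nat.dvd_prime_pow Fact.out).1 h2
      rw [← orderOf_eq_one_iff, hj]
      by_cases hj0 : j = 0
      · rw [hj0, pow_zero]
      · exact absurd ((dvd_pow_self p hj0).trans (hj ▸ h3)) hX
    · intro h hh k hk
      obtain ⟨k', hk', rfl⟩ := hk
      refine ⟨⟨h, hh⟩ * k' * ⟨h, hh⟩⁻¹, ?_, by simp⟩
      rw [SetLike.mem_coe, MonoidHom.mem_ker] at hk' ⊢
      rw [map_mul, map_mul, hk', mul_one, map_inv, mul_inv_cancel]
  obtain ⟨y, hy, hyx⟩ := h1 x.2
  have : y = x := Subtype.ext hyx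
  subst this
  exact hy

section Sylow

variable (P : Sylow p G)

omit [Fact p.Prime] in
theorem mem_of_conj (hself : normalizer ((P : Subgroup G) : Set G) = P) {n : G} (hn : ∀ x ∈ P, n * x * n⁻¹ ∈ P) :
    n ∈ P := by
  have h1 : n ∈ normalizer ((P : Subgroup G) : Set G) := by
    rw [Subgroup.mem_normalizer_iff]
    intro x
    refine ⟨hn x, fun hx => ?_⟩
    -- the map `x ↦ n x n⁻¹` is a bijection of the finite set `P`
    let f : ↥(P : Subgroup G) → ↥(P : Subgroup G) := fun x => ⟨n * x * n⁻¹, hn x x.2⟩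
    have hf : Function.Injective f := by
      intro a b hab
      have := congrArg Subtype.val hab
      exact Subtype.ext (mul_left_cancel (mul_right_cancel this))
    obtain ⟨y, hy⟩ := (Finite.injective_iff_surjective.1 hf) ⟨n * x * n⁻¹, hx⟩
    have h2 := congrArg Subtype.val hy
    have h3 : (y : G) = x := mul_left_cancel (mul_right_cancel h2)
    rw [← h3]
    exact y.2
  rw [hself] at h1
  exact h1

theorem hom_eq_one (hself : normalizer ((P : Subgroup G) : Set G) = P) {H : Subgroup G} (hPH : (P : Subgroup G) ≤ H)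
    {X : Type*} [Group X] [Finite X] (hX : ¬ p ∣ Nat.card X) (f : H →* X) (x : H) : f x = 1 :=
  hom_eq_one' P.isPGroup' (fun hd => P.not_dvd_index (hd.trans (relIndex_dvd_index_of_le hPH)))
    (fun _ _ hn => mem_of_conj P hself hn) hPH hX f x

theorem eq_of_isConj (hself : normalizer ((P : Subgroup G) : Set G) = P) {z z' : G} (hz : ∀ x ∈ P, x * z = z * x)
    (hz' : ∀ x ∈ P, x * z' = z' * x) (h : IsConj z z') : z = z' := by
  obtain ⟨g, hg⟩ := isConj_iff.1 h
  have h1 : z ∈ centralizer ((P : Subgroup G) : Set G) := mem_centralizer_iff.2 fun x hx => hz x hx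
  have h2 : g⁻¹⁻¹ * z * g⁻¹ ∈ centralizer ((P : Subgroup G) : Set G) := by
    rw [inv_inv, hg]
    exact mem_centralizer_iff.2 fun x hx => hz' x hx
  obtain ⟨n, hn, e⟩ := P.conj_eq_normalizer_conj_of_mem_centralizer z g⁻¹ h1 h2
  have hn' : n ∈ (P : Subgroup G) := by rw [← hself]; exact hn
  rw [inv_inv, hg] at e
  have h3 := hz n hn'
  rw [e, mul_assoc, ← h3, inv_mul_cancel_left]

theorem index_modEq (hself : normalizer ((P : Subgroup G) : Set G) = P) : (P : Subgroup G).index ≡ 1 [MOD p] := by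
  have h1 := card_sylow_modEq_one p G
  rw [P.card_eq_index_normalizer] at h1
  have h2 : normalizer (P : Set G) = (P : Subgroup G) := hself
  rw [h2] at h1
  exact h1

end Sylow

/-- the image of a self-normalizing Sylow subgroup in a quotient of an overgroup is self-normalizing -/
theorem quot {P : Subgroup G} {H : Subgroup G} (hPp : IsPGroup p P) (hPi : ¬ p ∣ P.relIndex H)
    (hself : ∀ n ∈ H, (∀ x ∈ P, n * x * n⁻¹ ∈ P) → n ∈ P) (hPH : P ≤ H)
    {X : Type*} [Group X] (f : H →* X) {n : H}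
    (hn : ∀ x : H, (x : G) ∈ P → ∃ y : H, (y : G) ∈ P ∧ f (n * x * n⁻¹) = f y) : ∃ y : H, (y : G) ∈ P ∧ f n = f y := by
  -- `L` = elements of `H` normalising `f(P)`, `K` = preimage of `f(P)`
  let P' : Subgroup H := P.subgroupOf H
  let K : Subgroup H := (P'.map f).comap f
  have hPK : P' ≤ K := Subgroup.le_comap_map f P'
  have hnK : n ∈ normalizer (K : Set H) := by
    rw [Subgroup.mem_normalizer_iff]
    -- enough: conjugation maps `K` into `K`
    have h1 : ∀ k ∈ K, n * k * n⁻¹ ∈ K := by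
      intro k hk
      obtain ⟨x, hx, hxk⟩ := hk
      obtain ⟨y, hy, e⟩ := hn x hx
      refine ⟨y, hy, ?_⟩
      rw [← e, map_mul, map_mul, hxk, map_mul, map_mul]
    intro x
    refine ⟨h1 x, fun hx => ?_⟩
    let g : K → K := fun k => ⟨n * k * n⁻¹, h1 k k.2⟩
    have hg : Function.Injective g := by
      intro a b hab
      have := congrArg Subtype.val hab
      exact Subtype.ext (mul_left_cancel (mul_right_cancel this))
    obtain ⟨y, hy⟩ := (Finite.injective_iff_surjective.1 hg) ⟨n * x * n⁻¹, hx⟩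
    have h2 := congrArg Subtype.val hy
    have h3 : (y : H) = x := mul_left_cancel (mul_right_cancel h2)
    rw [← h3]
    exact y.2
  have h4 : normalizer (K : Set H) ≤ K := by
    refine le_of_normal (G := H) (P := P') (p := p) (hPp.comap_subtype) ?_ ?_ hPK le_normalizer ?_
    · intro hd
      have h5 : P'.relIndex (normalizer (K : Set H)) ∣ P'.index :=
        relIndex_dvd_index_of_le (hPK.trans le_normalizer)
      exact hPi (hd.trans h5)
    · intro m _ hm
      refine hself m m.2 fun x hx => ?_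
      exact hm ⟨x, hPH hx⟩ hx
    · intro h hh k hk
      exact (Subgroup.mem_normalizer_iff.1 hh k).1 hk
  obtain ⟨y, hy, e⟩ := h4 hnK
  exact ⟨y, hy, e.symm⟩

end Cfsg.Agent.H712.SelfNorm
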