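import Mathlib
import Cfsg.Agent.H712.GmnDef

/-!
# Rows of the Guralnick–Malle–Navarro theorem, strong form (helper712)

`RowS p S` : for every `p`-subgroup `A` of `MulAut S` containing `conj(Q)`, `Q` a Sylow `p`-subgroup of `S`, there is a
`p'`-element `h` of `S` such that `conj h` normalises `A` and `h` does NOT centralise `Q`.

* `RowS.row`, `RowS.of_row`, `RowS.of_moves` (it is enough that `conj h` does not centralise `A`), `RowS.congr`;
* `RowS.of_powConj` (C1), `RowS.of_real`;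
* `BadS` : the shape of a counterexample: `BadS.exists_fixed`, `BadS.eq_of_isConj`, `BadS.hom_eq_one`, `BadS.quot`.
-/

set_option autoImplicit false

open Subgroup

namespace Cfsg.Agent.H712.Gmn

/-- the strong form -/
def RowS (p : ℕ) (S : Type*) [Group S] : Prop :=
  ∀ A : Subgroup (MulAut S), IsPGroup p A → ∀ Q : Sylow p S, (∀ x ∈ Q, MulAut.conj x ∈ A) →
    ∃ h : S, ¬ p ∣ orderOf h ∧ (∀ a ∈ A, MulAut.conj h * a * (MulAut.conj h)⁻¹ ∈ A) ∧ ∃ t ∈ Q, h * t * h⁻¹ ≠ t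

/-- a counterexample to the strong form -/
structure BadS (p : ℕ) (S : Type*) [Group S] (A : Subgroup (MulAut S)) : Prop where
  pgroup : IsPGroup p A
  sylow : ∃ Q : Sylow p S, ∀ x ∈ Q, MulAut.conj x ∈ A
  nrm : ∀ s : S, (∀ a ∈ A, MulAut.conj s * a * (MulAut.conj s)⁻¹ ∈ A) →
    ∃ s₁ s₂ : S, s = s₁ * s₂ ∧ MulAut.conj s₁ ∈ A ∧ ¬ p ∣ orderOf s₂ ∧ ∀ a ∈ A, a s₂ = s₂

section

variable {p : ℕ} {S : Type*} [Group S]

theorem RowS.row (h : RowS p S) : Row p S := by
  intro A hA hQ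
  obtain ⟨Q, hQ⟩ := hQ
  obtain ⟨x, hx, hn, t, -, ht⟩ := h A hA Q hQ
  exact ⟨x, fun h0 => ht (by rw [h0, one_mul, inv_one, mul_one]), hx, hn⟩

theorem RowS.of_row (h : Row p S)
    (hC : ∀ Q : Sylow p S, ∀ s : S, ¬ p ∣ orderOf s → (∀ t ∈ Q, s * t * s⁻¹ = t) → s = 1) : RowS p S := by
  intro A hA Q hQ
  obtain ⟨x, hx1, hx, hn⟩ := h A hA ⟨Q, hQ⟩
  refine ⟨x, hx, hn, ?_⟩
  by_contra h0
  push Not at h0
  exact hx1 (hC Q x hx h0)

variable [Finite S] [Fact p.Prime]

omit [Finite S] [Fact p.Prime] in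
/-- the inner automorphisms in a `p`-group containing a Sylow subgroup -/
theorem mem_sylow_of_conj_mem (hZ : center S = ⊥) {A : Subgroup (MulAut S)} (hA : IsPGroup p A) (Q : Sylow p S)
    (hQ : ∀ x ∈ Q, MulAut.conj x ∈ A) {x : S} (hx : MulAut.conj x ∈ A) : x ∈ Q := by
  have hC : IsPGroup p (A.comap (MulAut.conj : S →* MulAut S)) := hA.comap_of_injective _ (conj_injective hZ)
  have h7 := Q.is_maximal' hC (fun x hx => hQ x hx)
  have h9 : x ∈ A.comap (MulAut.conj : S →* MulAut S) := hx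
  rw [h7] at h9
  exact h9

omit [Finite S] in
/-- **coprime action**: a `p'`-element normalising `A` and centralising `Q` centralises `A` -/
theorem centralizes_of_centralizes (hZ : center S = ⊥) {A : Subgroup (MulAut S)} (hA : IsPGroup p A) (Q : Sylow p S)
    (hQ : ∀ x ∈ Q, MulAut.conj x ∈ A) {h : S} (hh : ¬ p ∣ orderOf h)
    (hn : ∀ a ∈ A, MulAut.conj h * a * (MulAut.conj h)⁻¹ ∈ A) (hc : ∀ t ∈ Q, h * t * h⁻¹ = t) {a : MulAut S}
    (ha : a ∈ A) : a h = h := by
  have h1 : MulAut.conj (h * a h⁻¹) ∈ A := by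
    rw [map_mul, ← mul_conj_inv, map_inv]
    have h2 := mul_mem (hn a ha) (inv_mem ha)
    have h3 : MulAut.conj h * a * (MulAut.conj h)⁻¹ * a⁻¹ = MulAut.conj h * (a * (MulAut.conj h)⁻¹ * a⁻¹) := by group
    rwa [h3] at h2
  have h2 : h * a h⁻¹ ∈ Q := mem_sylow_of_conj_mem hZ hA Q hQ h1
  set x := h * a h⁻¹ with hx
  have hcx : ∀ i : ℕ, h * x ^ i = x ^ i * h := by
    intro i
    have := hc _ (pow_mem h2 i)
    calc h * x ^ i = h * x ^ i * h⁻¹ * h := by group
      _ = x ^ i * h := by rw [this]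
  have hax : (a h)⁻¹ = h⁻¹ * x := by rw [hx, map_inv]; group
  have hpow : ∀ i : ℕ, (a h⁻¹) ^ i = h⁻¹ ^ i * x ^ i := by
    have hcm : Commute h⁻¹ x := by
      have := hcx 1
      rw [pow_one] at this
      exact (show Commute h x from this).inv_left
    intro i
    rw [map_inv, hax, hcm.mul_pow]
  have h3 := hpow (orderOf h)
  rw [← map_pow, inv_pow, pow_orderOf_eq_one, inv_one, map_one, one_mul] at h3
  obtain ⟨k, hk⟩ := Q.isPGroup' ⟨x, h2⟩
  have hk' : x ^ p ^ k = 1 := congrArg Subtype.val hk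
  have h4 : orderOf x ∣ p ^ k := orderOf_dvd_of_pow_eq_one hk'
  have h5 : orderOf x ∣ orderOf h := orderOf_dvd_of_pow_eq_one h3.symm
  have h6 : orderOf x = 1 := Nat.eq_one_of_dvd_coprimes
    (Nat.Coprime.pow_left k ((Nat.Prime.coprime_iff_not_dvd Fact.out).2 hh)) h4 h5
  rw [orderOf_eq_one_iff] at h6
  rw [h6, mul_one, inv_inj] at hax
  exact hax

omit [Finite S] in
/-- the strong form from a `p'`-element not centralising `A` -/
theorem RowS.of_moves (hZ : center S = ⊥)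
    (h : ∀ A : Subgroup (MulAut S), IsPGroup p A → (∃ Q : Sylow p S, ∀ x ∈ Q, MulAut.conj x ∈ A) →
      ∃ h : S, ¬ p ∣ orderOf h ∧ (∀ a ∈ A, MulAut.conj h * a * (MulAut.conj h)⁻¹ ∈ A) ∧
        ∃ a ∈ A, MulAut.conj h * a * (MulAut.conj h)⁻¹ ≠ a) : RowS p S := by
  intro A hA Q hQ
  obtain ⟨x, hx, hn, a, ha, hne⟩ := h A hA ⟨Q, hQ⟩
  refine ⟨x, hx, hn, ?_⟩
  by_contra h0
  push Not at h0
  have h1 := centralizes_of_centralizes hZ hA Q hQ hx hn h0 ha
  apply hne
  have h2 := mul_conj_inv a x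
  rw [h1] at h2
  have h3 : a * MulAut.conj x = MulAut.conj x * a := by
    calc a * MulAut.conj x = a * MulAut.conj x * a⁻¹ * a := by group
      _ = MulAut.conj x * a := by rw [h2]
  rw [← h3]
  group

omit [Finite S] in
theorem mem_normalizer_of_forall {A : Subgroup (MulAut S)} [Finite (MulAut S)] {n : MulAut S}
    (hn : ∀ a ∈ A, n * a * n⁻¹ ∈ A) : n ∈ normalizer (A : Set (MulAut S)) := by
  rw [Subgroup.mem_normalizer_iff]
  intro x
  refine ⟨hn x, fun hx => ?_⟩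
  let f : ↥A → ↥A := fun x => ⟨n * x * n⁻¹, hn x x.2⟩
  have hf : Function.Injective f := by
    intro a b hab
    have := congrArg Subtype.val hab
    exact Subtype.ext (mul_left_cancel (mul_right_cancel this))
  obtain ⟨y, hy⟩ := (Finite.injective_iff_surjective.1 hf) ⟨n * x * n⁻¹, hx⟩
  have h2 := congrArg Subtype.val hy
  have h3 : (y : MulAut S) = x := mul_left_cancel (mul_right_cancel h2)
  rw [← h3]
  exact y.2

theorem finite_mulAut : Finite (MulAut S) := by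
  have : Finite (S ≃ S) := inferInstance
  exact Finite.of_injective (fun a : MulAut S => (a.toEquiv : S ≃ S)) fun a b h => MulEquiv.toEquiv_injective h

/-- the strong form holds if there is no counterexample -/
theorem RowS.of_not_bad (hZ : center S = ⊥) (h : ∀ A : Subgroup (MulAut S), ¬ BadS p S A) : RowS p S := by
  have := finite_mulAut (S := S)
  intro A hA Q hQ
  by_contra hno
  push Not at hno
  refine h A ⟨hA, ⟨Q, hQ⟩, fun s hs => ?_⟩
  have hsN : MulAut.conj s ∈ normalizer (A : Set (MulAut S)) := mem_normalizer_of_forall hs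
  -- the decomposition
  obtain ⟨k, m, hm, hkm⟩ := Nat.exists_eq_pow_mul_and_not_dvd (n := orderOf s) (orderOf_pos s).ne' p
    (Nat.Prime.ne_one Fact.out)
  have hco : Nat.Coprime m (p ^ k) := ((Nat.Prime.coprime_iff_not_dvd Fact.out).2 hm).symm.pow_right k
  have hbez := Nat.gcd_eq_gcd_ab m (p ^ k)
  rw [hco] at hbez
  set u := m.gcdA (p ^ k)
  set v := m.gcdB (p ^ k)
  have hs1 : s = s ^ ((m : ℤ) * u) * s ^ (((p ^ k : ℕ) : ℤ) * v) := by
    rw [← zpow_add, ← hbez]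
    simp
  have hsn : s ^ (orderOf s) = 1 := pow_orderOf_eq_one s
  have hx1 : (s ^ ((m : ℤ) * u)) ^ p ^ k = 1 := by
    rw [← zpow_natCast, ← zpow_mul, show (m : ℤ) * u * ((p ^ k : ℕ) : ℤ) = ((orderOf s : ℕ) : ℤ) * u by
      rw [hkm]; push_cast; ring, zpow_mul, zpow_natCast, hsn, one_zpow]
  have hx2 : (s ^ (((p ^ k : ℕ) : ℤ) * v)) ^ m = 1 := by
    rw [← zpow_natCast, ← zpow_mul, show (((p ^ k : ℕ) : ℤ) * v) * (m : ℤ) = ((orderOf s : ℕ) : ℤ) * v by
      rw [hkm]; push_cast; ring, zpow_mul, zpow_natCast, hsn, one_zpow]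
  have hn1 : MulAut.conj (s ^ ((m : ℤ) * u)) ∈ normalizer (A : Set (MulAut S)) := by
    rw [map_zpow]
    exact zpow_mem hsN _
  have hn2 : MulAut.conj (s ^ (((p ^ k : ℕ) : ℤ) * v)) ∈ normalizer (A : Set (MulAut S)) := by
    rw [map_zpow]
    exact zpow_mem hsN _
  refine ⟨_, _, hs1, ?_, ?_, ?_⟩
  · set y := s ^ ((m : ℤ) * u)
    have hzp : IsPGroup p (zpowers (MulAut.conj y)) := by
      rintro ⟨x, j, rfl⟩
      refine ⟨k, Subtype.ext ?_⟩
      show ((MulAut.conj y) ^ j) ^ p ^ k = 1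
      rw [← zpow_natCast, ← zpow_mul, mul_comm, zpow_mul, zpow_natCast, ← map_pow, hx1, map_one, one_zpow]
    have hB : IsPGroup p (zpowers (MulAut.conj y) ⊔ A : Subgroup (MulAut S)) :=
      IsPGroup.to_sup_of_normal_right' hzp hA (by rw [zpowers_le]; exact hn1)
    exact hQ y (mem_sylow_of_conj_mem hZ hB Q (fun x hx => (le_sup_right : A ≤ _) (hQ x hx))
      ((le_sup_left : zpowers (MulAut.conj y) ≤ _) (mem_zpowers _)))
  · intro hd
    exact hm (hd.trans (orderOf_dvd_of_pow_eq_one hx2))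
  · intro a ha
    have hd : ¬ p ∣ orderOf (s ^ (((p ^ k : ℕ) : ℤ) * v)) := fun hd => hm (hd.trans (orderOf_dvd_of_pow_eq_one hx2))
    exact centralizes_of_centralizes hZ hA Q hQ hd (fun b hb => (Subgroup.mem_normalizer_iff.1 hn2 b).1 hb)
      (hno _ hd (fun b hb => (Subgroup.mem_normalizer_iff.1 hn2 b).1 hb)) ha

variable {A : Subgroup (MulAut S)}

namespace BadS

omit [Finite S] [Fact p.Prime] in
theorem mem_of_mem_comap (hB : BadS p S A) (hZ : center S = ⊥) {B : Subgroup (MulAut S)} (hBp : IsPGroup p B)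
    (hAB : A ≤ B) {s : S} (hs : MulAut.conj s ∈ B) : MulAut.conj s ∈ A := by
  obtain ⟨Q, hQA⟩ := hB.sylow
  have hC : IsPGroup p (B.comap (MulAut.conj : S →* MulAut S)) := hBp.comap_of_injective _ (conj_injective hZ)
  have h7 := Q.is_maximal' hC (fun x hx => hAB (hQA x hx))
  have h8 : s ∈ B.comap (MulAut.conj : S →* MulAut S) := hs
  rw [h7] at h8
  exact hQA s h8

/-- `A` as a Sylow subgroup of `Inn S * A` -/
def syl (hB : BadS p S A) (hZ : center S = ⊥) : Sylow p ↥(Bad.GG A) where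
  toSubgroup := A.subgroupOf (Bad.GG A)
  isPGroup' := hB.pgroup.comap_subtype
  is_maximal' := by
    intro R hR hAR
    refine le_antisymm (fun x hx => ?_) hAR
    obtain ⟨s, a, ha, e⟩ := Bad.mem_GG.1 x.2
    have h1 : A ≤ R.map (Bad.GG A).subtype := fun b hb => ⟨⟨b, Bad.le_GG hb⟩, hAR hb, rfl⟩
    have h2 : MulAut.conj s ∈ R.map (Bad.GG A).subtype := by
      have h3 : MulAut.conj s = (x : MulAut S) * a⁻¹ := by rw [← e]; group
      rw [h3]
      exact mul_mem ⟨x, hx, rfl⟩ (inv_mem (h1 ha))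
    have h4 := hB.mem_of_mem_comap hZ (hR.map _) h1 h2
    show (x : MulAut S) ∈ A
    rw [← e]
    exact mul_mem h4 ha

omit [Finite S] [Fact p.Prime] in
/-- elements of `Inn S * A` normalising `A` -/
theorem nrm' (hB : BadS p S A) {n : MulAut S} (hn : n ∈ Bad.GG A) (h : ∀ a ∈ A, n * a * n⁻¹ ∈ A) :
    ∃ a ∈ A, ∃ s : S, n = MulAut.conj s * a ∧ ¬ p ∣ orderOf s ∧ ∀ b ∈ A, b s = s := by
  obtain ⟨s, a, ha, rfl⟩ := Bad.mem_GG.1 hn
  obtain ⟨s₁, s₂, rfl, h1, h2, h3⟩ := hB.nrm s (fun b hb => by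
    have h1 := h _ (mul_mem (mul_mem (inv_mem ha) hb) ha)
    have h2 : MulAut.conj s * a * (a⁻¹ * b * a) * (MulAut.conj s * a)⁻¹ = MulAut.conj s * b * (MulAut.conj s)⁻¹ := by
      group
    rwa [h2] at h1)
  refine ⟨MulAut.conj s₁ * a, mul_mem h1 ha, s₂, ?_, h2, h3⟩
  have h4 := mul_conj_inv (MulAut.conj s₁) s₂
  rw [h3 _ h1] at h4
  rw [map_mul, ← mul_assoc]
  congr 1
  calc MulAut.conj s₁ * MulAut.conj s₂ = MulAut.conj s₁ * MulAut.conj s₂ * (MulAut.conj s₁)⁻¹ * MulAut.conj s₁ := by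
        group
    _ = MulAut.conj s₂ * MulAut.conj s₁ := by rw [h4]

omit [Finite S] [Fact p.Prime] in
/-- the Sylow subgroup of `S` -/
theorem exists_sylow (hB : BadS p S A) (hZ : center S = ⊥) :
    ∃ Q : Sylow p S, (∀ x : S, x ∈ Q ↔ MulAut.conj x ∈ A) ∧ ∀ a ∈ A, ∀ x ∈ Q, a x ∈ Q := by
  obtain ⟨Q, hQA⟩ := hB.sylow
  have hC : IsPGroup p (A.comap (MulAut.conj : S →* MulAut S)) := hB.pgroup.comap_of_injective _ (conj_injective hZ)
  have h7 := Q.is_maximal' hC (fun x hx => hQA x hx)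
  have h8 : ∀ x : S, x ∈ Q ↔ MulAut.conj x ∈ A := by
    intro x
    refine ⟨hQA x, fun hx => ?_⟩
    have h9 : x ∈ A.comap (MulAut.conj : S →* MulAut S) := hx
    rw [h7] at h9
    exact h9
  refine ⟨Q, h8, fun a ha x hx => ?_⟩
  rw [h8, ← mul_conj_inv]
  exact mul_mem (mul_mem ha ((h8 x).1 hx)) (inv_mem ha)

/-- a fixed element of order `p` in the Sylow subgroup -/
theorem exists_fixed (hB : BadS p S A) (hZ : center S = ⊥) (hp : p ∣ Nat.card S) :
    ∃ z : S, z ≠ 1 ∧ z ^ p = 1 ∧ MulAut.conj z ∈ A ∧ ∀ a ∈ A, a z = z := by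
  obtain ⟨Q, hQ, hAQ⟩ := hB.exists_sylow hZ
  -- `A` acts on `Q`
  let act : MulAction ↥A ↥(Q : Subgroup S) := {
    smul := fun a x => ⟨(a : MulAut S) x, hAQ a a.2 x x.2⟩
    one_smul := fun x => Subtype.ext rfl
    mul_smul := fun a b x => Subtype.ext rfl }
  have hfix1 : (1 : ↥(Q : Subgroup S)) ∈ MulAction.fixedPoints ↥A ↥(Q : Subgroup S) := fun a => Subtype.ext (map_one _)
  have hd : p ∣ Nat.card ↥(Q : Subgroup S) := Q.dvd_card_of_dvd_card hp
  obtain ⟨z, hz, hz1⟩ := hB.pgroup.exists_fixed_point_of_prime_dvd_card_of_fixed_point ↥(Q : Subgroup S) hd hfix1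
  have hz' : ∀ a ∈ A, a (z : S) = z := fun a ha => congrArg Subtype.val (hz ⟨a, ha⟩)
  have hz1' : (z : S) ≠ 1 := fun h => hz1 (Subtype.ext h.symm)
  obtain ⟨k, hk⟩ := Q.isPGroup' z
  have hk' : (z : S) ^ p ^ k = 1 := by
    have := congrArg Subtype.val hk
    simpa using this
  -- an element of order `p`
  obtain ⟨j, -, hj⟩ := (Nat.dvd_prime_pow Fact.out).1 (orderOf_dvd_of_pow_eq_one hk')
  have hj0 : j ≠ 0 := fun h => hz1' (orderOf_eq_one_iff.1 (by rw [hj, h, pow_zero]))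
  refine ⟨(z : S) ^ p ^ (j - 1), ?_, ?_, ?_, ?_⟩
  · intro h
    have h1 := orderOf_dvd_of_pow_eq_one h
    rw [hj, Nat.pow_dvd_pow_iff_le_right (Nat.Prime.one_lt Fact.out)] at h1
    omega
  · rw [← pow_mul, ← pow_succ, Nat.sub_add_cancel (Nat.one_le_iff_ne_zero.2 hj0), ← hj, pow_orderOf_eq_one]
  · rw [← hQ]
    exact pow_mem z.2 _
  · intro a ha
    rw [map_pow, hz' a ha]

/-- **Criterion (★3), strong.** -/
theorem eq_of_isConj (hB : BadS p S A) (hZ : center S = ⊥) {z z' : S} (hz : ∀ a ∈ A, a z = z) (hzA : MulAut.conj z ∈ A)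
    (hz' : ∀ a ∈ A, a z' = z') (h : IsConj z z') : z = z' := by
  have := finite_mulAut (S := S)
  obtain ⟨g, hg⟩ := isConj_iff.1 h
  have comm : ∀ {w : S}, (∀ a ∈ A, a w = w) → ∀ x ∈ (hB.syl hZ), x * (⟨MulAut.conj w, Bad.conj_mem_GG w⟩ : ↥(Bad.GG A)) =
      ⟨MulAut.conj w, Bad.conj_mem_GG w⟩ * x := by
    intro w hw x hx
    have h1 : (x : MulAut S) w = w := hw _ hx
    apply Subtype.ext
    show (x : MulAut S) * MulAut.conj w = MulAut.conj w * x
    have h2 := mul_conj_inv (x : MulAut S) w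
    rw [h1] at h2
    calc (x : MulAut S) * MulAut.conj w = ((x : MulAut S) * MulAut.conj w * (x : MulAut S)⁻¹) * x := by group
      _ = MulAut.conj w * x := by rw [h2]
  let P := hB.syl hZ
  let Z : ↥(Bad.GG A) := ⟨MulAut.conj z, Bad.conj_mem_GG z⟩
  let Z' : ↥(Bad.GG A) := ⟨MulAut.conj z', Bad.conj_mem_GG z'⟩
  let c : ↥(Bad.GG A) := ⟨MulAut.conj g, Bad.conj_mem_GG g⟩
  have e0 : c * Z * c⁻¹ = Z' := by
    apply Subtype.ext
    show MulAut.conj g * MulAut.conj z * (MulAut.conj g)⁻¹ = MulAut.conj z'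
    rw [← hg, map_mul, map_mul, map_inv]
  have h1 : Z ∈ centralizer ((P : Subgroup ↥(Bad.GG A)) : Set ↥(Bad.GG A)) :=
    mem_centralizer_iff.2 fun x hx => comm hz x hx
  have h2 : c⁻¹⁻¹ * Z * c⁻¹ ∈ centralizer ((P : Subgroup ↥(Bad.GG A)) : Set ↥(Bad.GG A)) := by
    rw [inv_inv, e0]
    exact mem_centralizer_iff.2 fun x hx => comm hz' x hx
  obtain ⟨n, hn, e⟩ := P.conj_eq_normalizer_conj_of_mem_centralizer Z c⁻¹ h1 h2
  rw [inv_inv, e0] at e
  obtain ⟨a, ha, s, hs, -, hsA⟩ := hB.nrm' n.2 (fun a ha => ((Subgroup.mem_normalizer_iff.1 hn) ⟨a, Bad.le_GG ha⟩).1 ha)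
  -- `n = conj s * a` commutes with `conj z`
  have h3 : (n : MulAut S) z = z := by
    rw [hs]
    show MulAut.conj s (a z) = z
    rw [hz a ha, MulAut.conj_apply]
    have h4 : MulAut.conj z s = s := hsA _ hzA
    rw [MulAut.conj_apply] at h4
    have h5 : z * s = s * z := by
      calc z * s = z * s * z⁻¹ * z := by group
        _ = s * z := by rw [h4]
    rw [← h5]
    group
  have h4 := mul_conj_inv (n : MulAut S) z
  rw [h3] at h4
  have h5 : Z' = Z := by
    rw [e]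
    apply Subtype.ext
    show (n : MulAut S)⁻¹ * MulAut.conj z * (n : MulAut S) = MulAut.conj z
    have h6 : (n : MulAut S) * MulAut.conj z = MulAut.conj z * n := by
      calc (n : MulAut S) * MulAut.conj z = (n : MulAut S) * MulAut.conj z * (n : MulAut S)⁻¹ * n := by group
        _ = MulAut.conj z * n := by rw [h4]
    calc (n : MulAut S)⁻¹ * MulAut.conj z * (n : MulAut S)
        = (n : MulAut S)⁻¹ * (MulAut.conj z * (n : MulAut S)) := by group
      _ = (n : MulAut S)⁻¹ * ((n : MulAut S) * MulAut.conj z) := by rw [h6]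
      _ = MulAut.conj z := by group
  exact (conj_injective hZ (congrArg Subtype.val h5)).symm

/-- **the quotient criterion, strong**: `A ≤ H ≤ Inn S * A`, `f : H → X`; an element normalising `f(A)` is in
`f(A) * f(C_H(A))`. -/
theorem quot (hB : BadS p S A) (hZ : center S = ⊥) {H : Subgroup (MulAut S)} (hAH : A ≤ H) (hH : H ≤ Bad.GG A)
    {X : Type*} [Group X] (f : H →* X) {n : H}
    (hn : ∀ x : H, (x : MulAut S) ∈ A → ∃ y : H, (y : MulAut S) ∈ A ∧ f (n * x * n⁻¹) = f y) :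
    ∃ y : H, (y : MulAut S) ∈ A ∧ ∃ s : S, ∃ hs : MulAut.conj s ∈ H, ¬ p ∣ orderOf s ∧ (∀ b ∈ A, b s = s) ∧
      f n = f ⟨MulAut.conj s, hs⟩ * f y := by
  have := finite_mulAut (S := S)
  let P' : Subgroup H := A.subgroupOf H
  let K : Subgroup H := (P'.map f).comap f
  have hPK : P' ≤ K := Subgroup.le_comap_map f P'
  have hnK : n ∈ normalizer (K : Set H) := by
    rw [Subgroup.mem_normalizer_iff]
    have h1 : ∀ k ∈ K, n * k * n⁻¹ ∈ K := by
      intro k hk
      obtain ⟨x, hx, hxk⟩ := hk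
      obtain ⟨y, hy, e⟩ := hn x hx
      refine ⟨y, hy, ?_⟩
      rw [← e, map_mul, map_mul, hxk, map_mul, map_mul]
    intro x
    refine ⟨h1 x, fun hx => ?_⟩
    let g : K → K := fun k => ⟨n * k * n⁻¹, h1 k k.2⟩
    have hg : Function.Injective g := by
      intro a b hab
      have := congrArg Subtype.val hab
      exact Subtype.ext (mul_left_cancel (mul_right_cancel this))
    obtain ⟨y, hy⟩ := (Finite.injective_iff_surjective.1 hg) ⟨n * x * n⁻¹, hx⟩
    have h2 := congrArg Subtype.val hy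
    have h3 : (y : H) = x := mul_left_cancel (mul_right_cancel h2)
    rw [← h3]
    exact y.2
  -- Frattini
  have hPi : ¬ p ∣ A.relIndex H := by
    intro hd
    have h1 : A.relIndex H ∣ A.relIndex (Bad.GG A) := by
      have h2 := relIndex_mul_relIndex A H (Bad.GG A) hAH hH
      exact Dvd.intro _ h2
    exact (hB.syl hZ).not_dvd_index (hd.trans h1)
  let PK : Subgroup K := P'.subgroupOf K
  have hPKp : IsPGroup p PK := (hB.pgroup.comap_subtype (K := H)).comap_subtype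
  have hPKi : ¬ p ∣ PK.index := by
    intro hd
    have h1 : PK.index ∣ P'.index := by
      change P'.relIndex K ∣ P'.index
      exact relIndex_dvd_index_of_le hPK
    exact hPi (hd.trans h1)
  let N := normalizer (K : Set H)
  have hKN : K ≤ N := le_normalizer
  let Q : Sylow p ↥(K.subgroupOf N) := by
    refine IsPGroup.toSylow (P := (P'.subgroupOf N).subgroupOf (K.subgroupOf N)) ?_ ?_
    · exact ((hB.pgroup.comap_subtype (K := H)).comap_subtype (K := N)).comap_subtype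
    · intro hd
      apply hPi
      have h1 : (P'.subgroupOf N).relIndex (K.subgroupOf N) ∣ P'.relIndex K := by
        rw [relIndex_subgroupOf hKN]
      exact (hd.trans h1).trans (relIndex_dvd_index_of_le hPK)
  have hfr := Sylow.normalizer_sup_eq_top Q
  have hQ : (Q : Subgroup ↥(K.subgroupOf N)).map (K.subgroupOf N).subtype = P'.subgroupOf N := by
    change ((P'.subgroupOf N).subgroupOf (K.subgroupOf N)).map (K.subgroupOf N).subtype = P'.subgroupOf N
    rw [Subgroup.subgroupOf_map_subtype]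
    exact inf_eq_left.2 (fun x hx => hPK hx)
  rw [hQ] at hfr
  have hn' : (⟨n, hnK⟩ : N) ∈ normalizer ((P'.subgroupOf N : Subgroup N) : Set N) ⊔ K.subgroupOf N := by
    rw [hfr]; trivial
  rw [mem_sup_of_normal_right] at hn'
  obtain ⟨m, hm, k, hk, e⟩ := hn'
  have hmA : ∀ a ∈ A, ((m : H) : MulAut S) * a * ((m : H) : MulAut S)⁻¹ ∈ A := by
    intro a ha
    have h1 : (⟨⟨a, hAH ha⟩, hKN (hPK (show (⟨a, hAH ha⟩ : H) ∈ P' from ha))⟩ : N) ∈ P'.subgroupOf N := ha
    exact ((Subgroup.mem_normalizer_iff.1 hm _).1 h1)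
  obtain ⟨a, ha, s, hs, hsp, hsA⟩ := hB.nrm' (hH (m : H).2) hmA
  obtain ⟨x, hx, hxk⟩ := hk
  have hsH : MulAut.conj s ∈ H := by
    have h1 : MulAut.conj s = ((m : H) : MulAut S) * a⁻¹ := by rw [hs]; group
    rw [h1]
    exact mul_mem (m : H).2 (inv_mem (hAH ha))
  refine ⟨⟨a, hAH ha⟩ * x, mul_mem ha hx, s, hsH, hsp, hsA, ?_⟩
  have h1 : n = (m : H) * (k : H) := (congrArg Subtype.val e).symm
  have h2 : (m : H) = ⟨MulAut.conj s, hsH⟩ * ⟨a, hAH ha⟩ := Subtype.ext hs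
  rw [h1, map_mul, h2, map_mul, map_mul, ← mul_assoc]
  congr 1
  exact hxk.symm

end BadS

/-- **Criterion (C1), strong.** every element of order `p` is conjugate to a power `z ^ k`, `k ≢ 1`. -/
theorem RowS.of_powConj (hZ : center S = ⊥) (hp : p ∣ Nat.card S)
    (h : ∀ z : S, z ≠ 1 → z ^ p = 1 → ∃ k : ℕ, ¬ k ≡ 1 [MOD p] ∧ IsConj z (z ^ k)) : RowS p S := by
  refine RowS.of_not_bad hZ fun A hB => ?_
  obtain ⟨z, hz1, hzp, hzA, hz⟩ := hB.exists_fixed hZ hp
  obtain ⟨k, hk, hc⟩ := h z hz1 hzp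
  have h1 := hB.eq_of_isConj hZ hz hzA (fun a ha => by rw [map_pow, hz a ha]) hc
  have h2 : orderOf z = p := orderOf_eq_prime hzp hz1
  apply hk
  rw [← h2, ← pow_eq_pow_iff_modEq, pow_one, ← h1]

/-- real elements, strong -/
theorem RowS.of_real (hp2 : p ≠ 2) (hZ : center S = ⊥) (hp : p ∣ Nat.card S)
    (h : ∀ z : S, z ≠ 1 → z ^ p = 1 → IsConj z z⁻¹) : RowS p S := by
  refine RowS.of_powConj hZ hp fun z h1 h2 => ⟨p - 1, fun h3 => ?_, ?_⟩
  · have hp1 := Nat.Prime.two_le (Fact.out : p.Prime)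
    have h4 := (Nat.modEq_iff_dvd' (by omega : 1 ≤ p - 1)).1 h3.symm
    have h5 := Nat.le_of_dvd (by omega) h4
    omega
  · have h3 : z ^ (p - 1) = z⁻¹ := by
      rw [eq_inv_iff_mul_eq_one, ← pow_succ, Nat.sub_add_cancel (Nat.Prime.one_le Fact.out), h2]
    rw [h3]
    exact h z h1 h2

end

/-- transport along an isomorphism -/
theorem RowS.congr {p : ℕ} {S T : Type*} [Group S] [Group T] (e : S ≃* T) (h : RowS p S) : RowS p T := by
  intro A hA Q hQA
  let E : MulAut S ≃* MulAut T := MulAut.congr e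
  have hE : ∀ s : S, E (MulAut.conj s) = MulAut.conj (e s) := by
    intro s
    ext x
    simp [E, MulAut.congr]
  have h1 : IsPGroup p (A.comap E.toMonoidHom) := hA.comap_of_injective _ E.injective
  obtain ⟨x, hxp, hx, t, ht, hxt⟩ := h (A.comap E.toMonoidHom) h1 (Q.comapOfInjective e.toMonoidHom e.injective (by
    intro y _
    exact ⟨e.symm y, e.apply_symm_apply y⟩)) (fun x hx => by
      rw [mem_comap]
      show E (MulAut.conj x) ∈ A
      rw [hE]
      exact hQA _ hx)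
  refine ⟨e x, ?_, fun a ha => ?_, e t, ht, fun h0 => hxt (e.injective (by rw [map_mul, map_mul, map_inv]; exact h0))⟩
  · rw [show e x = e.toMonoidHom x from rfl, orderOf_injective e.toMonoidHom e.injective]
    exact hxp
  · have h2 := hx (E.symm a) (by
      rw [mem_comap]
      show E (E.symm a) ∈ A
      rw [E.apply_symm_apply]
      exact ha)
    rw [mem_comap] at h2
    have h3 : E.toMonoidHom (MulAut.conj x * E.symm a * (MulAut.conj x)⁻¹) =
        MulAut.conj (e x) * a * (MulAut.conj (e x))⁻¹ := by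
      show E (MulAut.conj x * E.symm a * (MulAut.conj x)⁻¹) = _
      rw [map_mul, map_mul, map_inv, hE, E.apply_symm_apply]
    rw [← h3]
    exact h2

end Cfsg.Agent.H712.Gmn
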