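import Mathlib
import Cfsg.Agent.H712.HH
import Cfsg.Agent.H712.GmnStrong

/-!
# Criterion (C3): abelian Sylow subgroups of small rank (helper712)

* `RowS.of_abelian` : `S` nonabelian simple, `p ∣ #S`, Sylow `p`-subgroups `Q` abelian with fewer than `p ^ p` elements
  `x`, `x ^ p = 1`: `RowS p S`.
* `RowS.of_cyclic` : cyclic Sylow `p`-subgroups.
-/

set_option autoImplicit false

open Subgroup

namespace Cfsg.Agent.H712.Gmn

variable {p : ℕ} [Fact p.Prime] {S : Type*} [Group S] [Finite S]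

/-- **Burnside's theorem** for simple groups -/
theorem not_normalizer_le_centralizer [IsSimpleGroup S] (hna : ¬ ∀ x y : S, x * y = y * x) (hp : p ∣ Nat.card S)
    (Q : Sylow p S) : ¬ normalizer ((Q : Subgroup S) : Set S) ≤ centralizer ((Q : Subgroup S) : Set S) := by
  intro h
  have hc := MonoidHom.ker_transferSylow_isComplement' Q h
  have hQ : (Q : Subgroup S) ≠ ⊥ := Q.ne_bot_of_dvd_card hp
  rcases (MonoidHom.normal_ker (MonoidHom.transferSylow Q h)).eq_bot_or_eq_top with h1 | h1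
  · rw [h1, isComplement'_bot_left] at hc
    refine hna fun x y => ?_
    have hx : x ∈ (Q : Subgroup S) := by rw [hc]; trivial
    have hy : y ∈ (Q : Subgroup S) := by rw [hc]; trivial
    exact (mem_centralizer_iff.1 (h (le_normalizer hy)) x hx)
  · rw [h1, isComplement'_top_left] at hc
    exact hQ hc

/-- coprime action on an abelian `p`-group, trivial on the elements of order `p` -/
theorem centralizes_of_omega (Q : Sylow p S) (hab : ∀ x ∈ Q, ∀ y ∈ Q, x * y = y * x)
    (h : ∀ s ∈ normalizer ((Q : Subgroup S) : Set S), ∀ x ∈ Q, x ^ p = 1 → s * x * s⁻¹ = x) :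
    normalizer ((Q : Subgroup S) : Set S) ≤ centralizer ((Q : Subgroup S) : Set S) := by
  intro s hs
  -- a power of `s` prime to `p` lies in `Q`
  obtain ⟨m, hm, hsm⟩ : ∃ m : ℕ, ¬ p ∣ m ∧ s ^ m ∈ Q := by
    refine ⟨(Q : Subgroup S).relIndex (normalizer ((Q : Subgroup S) : Set S)), fun hd => Q.not_dvd_index
      (hd.trans (relIndex_dvd_index_of_le le_normalizer)), ?_⟩
    have hn : ((Q : Subgroup S).subgroupOf (normalizer ((Q : Subgroup S) : Set S))).Normal := inferInstance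
    have h1 := Subgroup.pow_index_mem ((Q : Subgroup S).subgroupOf (normalizer ((Q : Subgroup S) : Set S)))
      (⟨s, hs⟩ : normalizer ((Q : Subgroup S) : Set S))
    exact h1
  have key : ∀ n : ℕ, ∀ x ∈ Q, orderOf x ≤ n → s * x * s⁻¹ = x := by
    intro n
    induction n with
    | zero => intro x _ hx; exact absurd (orderOf_pos x) (by omega)
    | succ n ih =>
      intro x hx hxn
      by_cases hx1 : x = 1
      · rw [hx1]; group
      have hord : ∃ k, orderOf x = p ^ k := by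
        obtain ⟨k, hk⟩ := Q.isPGroup' ⟨x, hx⟩
        have h1 : x ^ p ^ k = 1 := congrArg Subtype.val hk
        obtain ⟨j, -, hj⟩ := (Nat.dvd_prime_pow Fact.out).1 (orderOf_dvd_of_pow_eq_one h1)
        exact ⟨j, hj⟩
      obtain ⟨k, hk⟩ := hord
      have hk0 : k ≠ 0 := fun h0 => hx1 (orderOf_eq_one_iff.1 (by rw [hk, h0, pow_zero]))
      have hxp : orderOf (x ^ p) ≤ n := by
        have h1 : orderOf (x ^ p) = p ^ (k - 1) := by
          rw [orderOf_pow, hk]
          obtain ⟨j, rfl⟩ := Nat.exists_eq_succ_of_ne_zero hk0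
          have h2 : Nat.gcd (p ^ (j + 1)) p = p := Nat.gcd_eq_right (dvd_pow_self p (by omega))
          rw [Nat.succ_eq_add_one, h2, pow_succ, Nat.mul_div_cancel _ (Nat.Prime.pos Fact.out), Nat.add_sub_cancel]
        have h2 : p ^ (k - 1) < p ^ k := Nat.pow_lt_pow_right (Nat.Prime.one_lt Fact.out) (by omega)
        omega
      have h1 := ih (x ^ p) (pow_mem hx p) hxp
      have hsx : s * x * s⁻¹ ∈ Q := ((Subgroup.mem_normalizer_iff.1 hs) x).1 hx
      have hy : x⁻¹ * (s * x * s⁻¹) ∈ Q := mul_mem (inv_mem hx) hsx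
      have hyp : (x⁻¹ * (s * x * s⁻¹)) ^ p = 1 := by
        have hcm : Commute x⁻¹ (s * x * s⁻¹) := hab _ (inv_mem hx) _ hsx
        rw [hcm.mul_pow, conj_pow, h1, inv_pow, inv_mul_cancel]
      have hys := h s hs _ hy hyp
      set y := x⁻¹ * (s * x * s⁻¹) with hydef
      have hj : ∀ j : ℕ, s ^ j * x * (s ^ j)⁻¹ = x * y ^ j := by
        intro j
        induction j with
        | zero => simp
        | succ j ihj =>
          have e1 : s * y ^ j * s⁻¹ = y ^ j := by
            have e2 : s * y ^ j * s⁻¹ = (s * y * s⁻¹) ^ j := (conj_pow).symm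
            rw [e2, hys]
          have e3 : s * x * s⁻¹ = x * y := by rw [hydef]; group
          calc s ^ (j + 1) * x * (s ^ (j + 1))⁻¹ = s * (s ^ j * x * (s ^ j)⁻¹) * s⁻¹ := by rw [pow_succ']; group
            _ = s * (x * y ^ j) * s⁻¹ := by rw [ihj]
            _ = (s * x * s⁻¹) * (s * y ^ j * s⁻¹) := by group
            _ = x * y * y ^ j := by rw [e1, e3]
            _ = x * y ^ (j + 1) := by rw [pow_succ', mul_assoc]
      have h2 := hj m
      have h3 : s ^ m * x * (s ^ m)⁻¹ = x := by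
        rw [hab _ hsm _ hx]
        group
      rw [h3, left_eq_mul] at h2
      have h4 : orderOf y ∣ p := orderOf_dvd_of_pow_eq_one hyp
      have h5 : orderOf y ∣ m := orderOf_dvd_of_pow_eq_one h2
      rcases (Nat.dvd_prime Fact.out).1 h4 with h6 | h6
      · have h7 : y = 1 := orderOf_eq_one_iff.1 h6
        rw [hydef, inv_mul_eq_one] at h7
        exact h7.symm
      · exact absurd (h6 ▸ h5) hm
  rw [mem_centralizer_iff]
  intro x hx
  have h1 := key _ x hx le_rfl
  calc x * s = s * x * s⁻¹ * s := by rw [h1]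
    _ = s * x := by group

/-- **Criterion (C3).** -/
theorem BadS.normalizer_le {A : Subgroup (MulAut S)} (hB : BadS p S A) (hZ : center S = ⊥)
    (hab : ∀ Q : Sylow p S, ∀ x ∈ Q, ∀ y ∈ Q, x * y = y * x)
    (hrk : ∀ Q : Sylow p S, Nat.card {x : S // x ∈ Q ∧ x ^ p = 1} < p ^ p) :
    ∃ Q : Sylow p S, normalizer ((Q : Subgroup S) : Set S) ≤ centralizer ((Q : Subgroup S) : Set S) := by
  obtain ⟨Q, hQ, hAQ⟩ := hB.exists_sylow hZ
  refine ⟨Q, centralizes_of_omega Q (hab Q) ?_⟩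
  have hfA : Finite (MulAut S) := by
    have : Finite (S ≃ S) := inferInstance
    exact Finite.of_injective (fun a : MulAut S => (a.toEquiv : S ≃ S)) fun a b h => MulEquiv.toEquiv_injective h
  -- the elements of order dividing `p`
  let E : Subgroup S := {
    carrier := {x | x ∈ Q ∧ x ^ p = 1}
    one_mem' := ⟨one_mem _, one_pow _⟩
    mul_mem' := fun {x y} hx hy => ⟨mul_mem hx.1 hy.1, by
      have hc : Commute x y := hab Q _ hx.1 _ hy.1
      rw [hc.mul_pow, hx.2, hy.2, one_mul]⟩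
    inv_mem' := fun {x} hx => ⟨inv_mem hx.1, by rw [inv_pow, hx.2, inv_one]⟩ }
  have hEc : ∀ x y : ↥E, x * y = y * x := fun x y => Subtype.ext (hab Q _ x.2.1 _ y.2.1)
  let _ : CommGroup ↥E := { (inferInstance : Group ↥E) with mul_comm := hEc }
  -- the stabiliser of `Q`
  let K : Subgroup (MulAut S) := {
    carrier := {n | ∀ x, n x ∈ Q ↔ x ∈ Q}
    one_mem' := fun x => Iff.rfl
    mul_mem' := fun {a b} ha hb x => (ha (b x)).trans (hb x)
    inv_mem' := fun {a} ha x => by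
      have h1 := ha (a⁻¹ x)
      rw [show a (a⁻¹ x) = x from MulAut.apply_inv_self _ a x] at h1
      exact h1.symm }
  have hAK : A ≤ K := fun a ha x => ⟨fun h => by
    have h1 := hAQ a⁻¹ (inv_mem ha) _ h
    rwa [show a⁻¹ (a x) = x from MulAut.inv_apply_self _ a x] at h1, hAQ a ha x⟩
  have hKE : ∀ n ∈ K, ∀ x : ↥E, n x ∈ E := fun n hn x => ⟨(hn x).2 x.2.1, by
    rw [← map_pow, x.2.2, map_one]⟩
  let f : ↥K →* MulAut ↥E := {
    toFun := fun n => {
      toFun := fun x => ⟨(n : MulAut S) (x : S), hKE n n.2 _⟩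
      invFun := fun x => ⟨((n⁻¹ : ↥K) : MulAut S) (x : S), hKE _ (n⁻¹ : ↥K).2 _⟩
      left_inv := fun x => Subtype.ext (MulAut.inv_apply_self _ (n : MulAut S) _)
      right_inv := fun x => Subtype.ext (MulAut.apply_inv_self _ (n : MulAut S) _)
      map_mul' := fun x y => Subtype.ext (map_mul (n : MulAut S) _ _) }
    map_one' := MulEquiv.ext fun x => rfl
    map_mul' := fun a b => MulEquiv.ext fun x => rfl }
  have hf : ∀ (n : ↥K) (x : ↥E), ((f n x : ↥E) : S) = (n : MulAut S) x := fun _ _ => rfl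
  have hfeq : ∀ n : ↥K, (∀ x : ↥E, (n : MulAut S) x = x) → f n = 1 := by
    intro n hn
    refine MulEquiv.ext fun x => ?_
    exact Subtype.ext (hn x)
  -- the normaliser of `Q`
  let NQ := normalizer ((Q : Subgroup S) : Set S)
  let g : ↥NQ →* ↥K := {
    toFun := fun s => ⟨MulAut.conj (s : S), fun x => ((Subgroup.mem_normalizer_iff.1 s.2) x).symm⟩
    map_one' := Subtype.ext (map_one _)
    map_mul' := fun a b => Subtype.ext (map_mul _ _ _) }
  let L : Subgroup (MulAut ↥E) := (f.comp g).range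
  let B : Subgroup (MulAut ↥E) := (A.subgroupOf K).map f
  have hBp : IsPGroup p B := (hB.pgroup.comap_subtype (K := K)).map f
  have hLp : ¬ p ∣ Nat.card L := by
    intro hd
    have h1 : Nat.card L = (f.comp g).ker.index := (Subgroup.index_ker _).symm
    have h2 : (Q : Subgroup S).subgroupOf NQ ≤ (f.comp g).ker := by
      intro x hx
      rw [MonoidHom.mem_ker, MonoidHom.comp_apply]
      refine hfeq _ fun e => ?_
      show MulAut.conj (x : S) (e : S) = e
      have h3 : (x : S) * e = e * x := hab Q _ hx _ e.2.1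
      rw [MulAut.conj_apply, h3]
      group
    have h3 : (f.comp g).ker.index ∣ ((Q : Subgroup S).subgroupOf NQ).index := index_dvd_of_le h2
    rw [h1] at hd
    exact Q.not_dvd_index ((hd.trans h3).trans (relIndex_dvd_index_of_le le_normalizer))
  have hgA : ∀ a ∈ A, ∀ s ∈ NQ, a s ∈ NQ := by
    intro a ha s hs
    have h1 : (⟨a, hAK ha⟩ * g ⟨s, hs⟩ * ⟨a, hAK ha⟩⁻¹ : ↥K) ∈ (⊤ : Subgroup ↥K) := trivial
    have h2 : ((⟨a, hAK ha⟩ * g ⟨s, hs⟩ * ⟨a, hAK ha⟩⁻¹ : ↥K) : MulAut S) = MulAut.conj (a s) := mul_conj_inv a s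
    rw [Subgroup.mem_normalizer_iff]
    intro x
    have h3 := (⟨a, hAK ha⟩ * g ⟨s, hs⟩ * ⟨a, hAK ha⟩⁻¹ : ↥K).2 x
    rw [h2] at h3
    exact h3.symm
  have hBL : ∀ b ∈ B, ∀ l ∈ L, b * l * b⁻¹ ∈ L := by
    rintro _ ⟨a, ha, rfl⟩ _ ⟨s, rfl⟩
    refine ⟨⟨(a : MulAut S) s, hgA a ha s s.2⟩, ?_⟩
    rw [MonoidHom.comp_apply, MonoidHom.comp_apply, ← map_inv, ← map_mul, ← map_mul]
    congr 1
    exact Subtype.ext (mul_conj_inv (a : MulAut S) s).symm
  have hcardE : Nat.card ↥E < p ^ p := hrk Q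
  have hLbot : L = ⊥ := by
    refine HH.eq_bot_mulAut (p := p) (E := ↥E) (fun x => Subtype.ext x.2.2) hcardE hBp hLp hBL ?_
    rintro _ ⟨s, rfl⟩ hs
    -- the Sylow subgroup `A` of `H = K ⊓ GG A`
    let H : Subgroup (MulAut S) := K ⊓ Bad.GG A
    have hAH : A ≤ H := le_inf hAK Bad.le_GG
    let fH : ↥H →* (MulAut ↥E) := f.comp (inclusion inf_le_left)
    have hcs : MulAut.conj (s : S) ∈ H := ⟨(g s).2, Bad.conj_mem_GG _⟩
    obtain ⟨y, hyA, t, ht, -, htA, hy⟩ := hB.quot hZ hAH inf_le_right fH (n := ⟨_, hcs⟩) (by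
      intro x hxA
      refine ⟨x, hxA, ?_⟩
      have h3 := hs (fH x) ⟨⟨x, hAK hxA⟩, hxA, rfl⟩
      have h4 : fH ⟨_, hcs⟩ = (f.comp g) s := rfl
      rw [map_mul, map_mul, h4, map_inv, mul_inv_eq_iff_eq_mul]
      exact (mul_inv_eq_iff_eq_mul.1 h3).symm)
    have h5 : (f.comp g) s = fH y := by
      have h6 : fH ⟨MulAut.conj t, ht⟩ = 1 := by
        refine hfeq _ fun e => ?_
        show MulAut.conj t (e : S) = e
        have h7 : MulAut.conj (e : S) t = t := htA _ ((hQ _).1 e.2.1)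
        rw [MulAut.conj_apply] at h7 ⊢
        have h8 : (e : S) * t = t * e := by
          calc (e : S) * t = e * t * (e : S)⁻¹ * e := by group
            _ = t * e := by rw [h7]
        rw [← h8]
        group
      have h7 : fH ⟨_, hcs⟩ = (f.comp g) s := rfl
      rw [← h7, hy, h6, one_mul]
    have h6 : fH y ∈ B := ⟨⟨y, hAK hyA⟩, hyA, rfl⟩
    obtain ⟨k, hk⟩ := hBp ⟨_, h6⟩
    have hk' : (fH y) ^ p ^ k = 1 := congrArg Subtype.val hk
    have h7 : orderOf (fH y) ∣ p ^ k := orderOf_dvd_of_pow_eq_one hk'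
    have h8 : orderOf (fH y) ∣ Nat.card ↥L := by
      have h9 : fH y ∈ L := by rw [← h5]; exact ⟨s, rfl⟩
      have h10 : orderOf (⟨fH y, h9⟩ : ↥L) = orderOf (fH y) := Subgroup.orderOf_mk _ _
      rw [← h10]
      exact orderOf_dvd_natCard _
    obtain ⟨j, -, hj⟩ := (Nat.dvd_prime_pow Fact.out).1 h7
    rw [h5, ← orderOf_eq_one_iff, hj]
    by_cases hj0 : j = 0
    · rw [hj0, pow_zero]
    · exact absurd ((dvd_pow_self p hj0).trans (hj ▸ h8)) hLp
  intro s hs x hx hxp
  have h1 : (f.comp g) ⟨s, hs⟩ ∈ L := ⟨_, rfl⟩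
  rw [hLbot, mem_bot] at h1
  have h3 : f (g ⟨s, hs⟩) = 1 := h1
  have h4 := hf (g ⟨s, hs⟩) ⟨x, hx, hxp⟩
  rw [h3] at h4
  exact h4.symm

omit [Finite S] in
theorem center_eq_bot [IsSimpleGroup S] (hna : ¬ ∀ x y : S, x * y = y * x) : center S = ⊥ := by
  rcases (inferInstance : (center S).Normal).eq_bot_or_eq_top with h | h
  · exact h
  · exact absurd (fun x y => mem_center_iff.1 (by rw [h]; trivial : y ∈ center S) x) hna

/-- **Criterion (C3).** -/
theorem RowS.of_abelian [IsSimpleGroup S] (hna : ¬ ∀ x y : S, x * y = y * x) (hp : p ∣ Nat.card S)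
    (hab : ∀ Q : Sylow p S, ∀ x ∈ Q, ∀ y ∈ Q, x * y = y * x)
    (hrk : ∀ Q : Sylow p S, Nat.card {x : S // x ∈ Q ∧ x ^ p = 1} < p ^ p) : RowS p S := by
  have hZ := center_eq_bot hna
  refine RowS.of_not_bad hZ fun A hB => ?_
  obtain ⟨Q, hQ⟩ := hB.normalizer_le hZ hab hrk
  exact not_normalizer_le_centralizer hna hp Q hQ

/-- (C3) for cyclic Sylow subgroups -/
theorem RowS.of_cyclic [IsSimpleGroup S] (hna : ¬ ∀ x y : S, x * y = y * x) (hp : p ∣ Nat.card S)
    (hcyc : ∀ Q : Sylow p S, IsCyclic (Q : Subgroup S)) : RowS p S := by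
  have hp1 : 1 < p := Nat.Prime.one_lt Fact.out
  refine RowS.of_abelian hna hp (fun Q x hx y hy => ?_) (fun Q => ?_)
  · have := hcyc Q
    have h1 : (⟨x, hx⟩ : (Q : Subgroup S)) * ⟨y, hy⟩ = ⟨y, hy⟩ * ⟨x, hx⟩ := by
      let _ : CommGroup (Q : Subgroup S) := IsCyclic.commGroup
      exact mul_comm _ _
    exact congrArg Subtype.val h1
  · have := hcyc Q
    have h1 : Nat.card {x : S // x ∈ Q ∧ x ^ p = 1} = Nat.card {x : (Q : Subgroup S) // x ^ p = 1} := by
      refine Nat.card_congr ⟨fun x => ⟨⟨x, x.2.1⟩, Subtype.ext x.2.2⟩,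
        fun x => ⟨x, x.1.2, congrArg Subtype.val x.2⟩, fun x => rfl, fun x => rfl⟩
    rw [h1]
    have h2 : Nat.card {x : (Q : Subgroup S) // x ^ p = 1} ≤ p := by
      classical
      let _ : Fintype (Q : Subgroup S) := Fintype.ofFinite _
      rw [Nat.card_eq_fintype_card, Fintype.card_subtype]
      exact IsCyclic.card_pow_eq_one_le (by omega)
    refine lt_of_le_of_lt h2 ?_
    calc p = p ^ 1 := (pow_one p).symm
      _ < p ^ p := Nat.pow_lt_pow_right hp1 hp1

end Cfsg.Agent.H712.Gmn
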