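import Mathlib
import Cfsg.Agent.CpAut.Psl
import Cfsg.Agent.ClassicalGeometry.AutPSL.SylowU
import Cfsg.Agent.H712.GmnStrong

/-!
# The exceptional case of the Guralnick–Malle–Navarro theorem: `PSL₂(3^f)` (helper712)

* `exists_dec` : an automorphism of odd order of `PSL₂(F)` is `conj s * lift (fld σ)`;
* `exc` : `F` of odd characteristic `p`, `A` a `p`-group of automorphisms of `PSL₂(F)` containing the inner automorphisms
  of a Sylow `p`-subgroup, no `p'`-element `≠ 1` normalises `A`: `p = 3`, `|F| = 3 ^ 3 ^ k` and for every field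
  automorphism `σ` there is `s` with `conj s * lift (fld σ) ∈ A`.
-/

set_option autoImplicit false

open Subgroup

namespace Cfsg.Agent.H712.Exc

open Matrix
open Cfsg.Agent.ClassicalGeometry.AutPSL.Root
open Cfsg.Agent.ClassicalGeometry.AutPSL.Auto
open Cfsg.Agent.ClassicalGeometry.AutPSL.Main
open Cfsg.Agent.ClassicalGeometry.AutPSL.SylowU
open Cfsg.Agent.CpAut.Psl

section Dec

variable {F : Type*} [Field F]

/-- matrices of square determinant induce inner automorphisms -/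
theorem exists_conj_of_isSquare {M : GL (Fin 2) F} (h : IsSquare (M : Matrix (Fin 2) (Fin 2) F).det) :
    ∃ s : Matrix.SpecialLinearGroup (Fin 2) F, lift (cj M) = MulAut.conj (pr s) := by
  obtain ⟨c, hc⟩ := h
  have hdet0 : (M : Matrix (Fin 2) (Fin 2) F).det ≠ 0 := by
    have := (Matrix.isUnit_iff_isUnit_det _).1 M.isUnit
    exact this.ne_zero
  have hc0 : c ≠ 0 := by
    rintro rfl
    rw [mul_zero] at hc
    exact hdet0 hc
  let c' : Fˣ := Units.mk0 c hc0
  obtain ⟨B, hB⟩ : ∃ B : GL (Fin 2) F, B = (scg c')⁻¹ * M := ⟨_, rfl⟩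
  have hM : M = scg c' * B := by rw [hB, mul_inv_cancel_left]
  have hdet : (B : Matrix (Fin 2) (Fin 2) F).det = 1 := by
    have h1 : (M : Matrix (Fin 2) (Fin 2) F).det = (scalar (Fin 2) c).det * (B : Matrix (Fin 2) (Fin 2) F).det := by
      conv_lhs => rw [hM]
      rw [Units.val_mul, det_mul]
      rfl
    have h2 : (scalar (Fin 2) c).det = c * c := by
      rw [Matrix.scalar_apply, det_diagonal, Fin.prod_univ_two]
    rw [h2, hc] at h1
    exact (mul_right_eq_self₀.1 h1.symm).resolve_right (mul_ne_zero hc0 hc0)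
  obtain ⟨b, hb⟩ : ∃ b : Matrix.SpecialLinearGroup (Fin 2) F, (b : Matrix (Fin 2) (Fin 2) F) = B :=
    ⟨⟨(B : Matrix (Fin 2) (Fin 2) F), hdet⟩, rfl⟩
  refine ⟨b, ?_⟩
  have h3 : cj M = cj B := by rw [hM, map_mul, cj_scg, one_mul]
  apply MulEquiv.ext
  intro x
  obtain ⟨x, rfl⟩ := pr_surjective x
  have h6 : cj B x = b * x * b⁻¹ := by
    apply Subtype.ext
    rw [coe_cj, Matrix.SpecialLinearGroup.coe_mul, Matrix.SpecialLinearGroup.coe_mul, hb]
    congr 1
    have h4 : ((B⁻¹ : GL (Fin 2) F) : Matrix (Fin 2) (Fin 2) F) * (B : Matrix (Fin 2) (Fin 2) F) = 1 := by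
      rw [← Units.val_mul, inv_mul_cancel, Units.val_one]
    have h5 : (B : Matrix (Fin 2) (Fin 2) F) *
        ((b⁻¹ : Matrix.SpecialLinearGroup (Fin 2) F) : Matrix (Fin 2) (Fin 2) F) = 1 := by
      rw [← hb, ← Matrix.SpecialLinearGroup.coe_mul, mul_inv_cancel, Matrix.SpecialLinearGroup.coe_one]
    exact left_inv_eq_right_inv h4 h5
  rw [h3, lift_pr, h6, map_mul, map_mul, map_inv]
  rfl

/-- the automorphisms `conj s * lift (fld σ)` -/
def Dec (F : Type*) [Field F] : Subgroup (MulAut (Matrix.ProjectiveSpecialLinearGroup (Fin 2) F)) where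
  carrier := {α | ∃ s, ∃ σ : F ≃+* F, α = MulAut.conj s * lift (fld σ)}
  one_mem' := ⟨1, 1, by rw [map_one, map_one, map_one, mul_one]⟩
  mul_mem' := by
    rintro _ _ ⟨s, σ, rfl⟩ ⟨t, τ, rfl⟩
    refine ⟨s * lift (fld σ) t, σ * τ, ?_⟩
    rw [map_mul, ← Gmn.mul_conj_inv, map_mul fld, map_mul lift]
    group
  inv_mem' := by
    rintro _ ⟨s, σ, rfl⟩
    refine ⟨lift (fld σ)⁻¹ s⁻¹, σ⁻¹, ?_⟩
    rw [map_inv fld, map_inv lift, ← Gmn.mul_conj_inv, map_inv MulAut.conj]
    group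

variable [Fintype F]

theorem exists_dec {p : ℕ} [Fact p.Prime] [CharP F p] (hp2 : p ≠ 2)
    {α : MulAut (Matrix.ProjectiveSpecialLinearGroup (Fin 2) F)} {ℓ : ℕ} (hℓ : Odd ℓ) (hα : α ^ ℓ = 1) :
    ∃ s, ∃ σ : F ≃+* F, α = MulAut.conj s * lift (fld σ) := by
  obtain ⟨M, σ, h⟩ := surj_two p α
  obtain ⟨k, hk⟩ := hℓ
  have h5 : α ^ 2 = lift (cj (M * fgl σ M) * fld (σ * σ)) := by
    rw [h, pow_two, ← map_mul, cjfld_mul]
  have hchar : ringChar F ≠ 2 := by
    rw [ringChar.eq F p]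
    exact hp2
  have hdet0 : (M : Matrix (Fin 2) (Fin 2) F).det ≠ 0 := ((Matrix.isUnit_iff_isUnit_det _).1 M.isUnit).ne_zero
  have hsq : IsSquare ((M * fgl σ M : GL (Fin 2) F) : Matrix (Fin 2) (Fin 2) F).det := by
    rw [Units.val_mul, det_mul, coe_fgl]
    have h1 : ((M : Matrix (Fin 2) (Fin 2) F).map σ).det = σ (M : Matrix (Fin 2) (Fin 2) F).det :=
      (RingEquiv.map_det σ _).symm
    rw [h1]
    set d := (M : Matrix (Fin 2) (Fin 2) F).det
    have hσ0 : σ d ≠ 0 := (map_ne_zero_iff σ σ.injective).2 hdet0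
    rw [FiniteField.isSquare_iff hchar (mul_ne_zero hdet0 hσ0), mul_pow, ← map_pow]
    rcases FiniteField.pow_dichotomy hchar hdet0 with h2 | h2
    · rw [h2, map_one, mul_one]
    · rw [h2, map_neg, map_one, neg_mul_neg, mul_one]
  obtain ⟨b, hb⟩ := exists_conj_of_isSquare hsq
  have h6 : α ^ 2 ∈ Dec F := ⟨pr b, σ * σ, by rw [h5, map_mul, hb]⟩
  have h7 : α = (α ^ 2) ^ (k + 1) := by
    rw [← pow_mul, show 2 * (k + 1) = ℓ + 1 by omega, pow_succ, hα, one_mul]
  have h8 : α ∈ Dec F := by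
    rw [h7]
    exact pow_mem h6 _
  exact h8

end Dec

section Tor

variable {F : Type*} [Field F]

/-- diagonal elements -/
def dg (a : Fˣ) : Matrix.SpecialLinearGroup (Fin 2) F :=
  ⟨!![(a : F), 0; 0, ((a⁻¹ : Fˣ) : F)], by rw [det_fin_two_of]; simp⟩

theorem fld_dg (σ : F ≃+* F) (a : Fˣ) (h : σ a = a) : fld σ (dg a) = dg a := by
  apply Subtype.ext
  ext i j
  rw [coe_fld_apply]
  have h' : σ ((a⁻¹ : Fˣ) : F) = ((a⁻¹ : Fˣ) : F) := by
    rw [Units.val_inv_eq_inv_val, map_inv₀, h]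
  fin_cases i <;> fin_cases j <;> simp [dg, h]

theorem pr_dg_eq_one {a : Fˣ} (h : pr (dg a) = 1) : (a : F) * a = 1 := by
  rw [pr_eq_one_iff, Matrix.SpecialLinearGroup.mem_center_iff] at h
  obtain ⟨r, -, hr⟩ := h
  have h1 : r = (a : F) := by
    have := congrFun (congrFun hr 0) 0
    simpa [dg, Matrix.scalar_apply] using this
  have h2 : r = ((a⁻¹ : Fˣ) : F) := by
    have := congrFun (congrFun hr 1) 1
    simpa [dg, Matrix.scalar_apply] using this
  calc (a : F) * a = (a : F) * ((a⁻¹ : Fˣ) : F) := by rw [← h2, ← h1]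
    _ = 1 := a.mul_inv

theorem dg_mul (a b : Fˣ) : dg (a * b) = dg a * dg b := by
  apply Subtype.ext
  rw [Matrix.SpecialLinearGroup.coe_mul]
  ext i j
  fin_cases i <;> fin_cases j <;> simp [dg, Matrix.mul_apply, Fin.sum_univ_two, mul_comm]

/-- the diagonal homomorphism -/
def dgHom : Fˣ →* Matrix.SpecialLinearGroup (Fin 2) F where
  toFun := dg
  map_one' := by
    apply Subtype.ext
    ext i j
    fin_cases i <;> fin_cases j <;> simp [dg]
  map_mul' := dg_mul

variable [Finite F]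

/-- `D = dg a`, `s` upper triangular (normalising the unitriangular group): `D s D⁻¹ s⁻¹` is unitriangular -/
theorem comm_mem (a : Fˣ) {s : Matrix.SpecialLinearGroup (Fin 2) F}
    (hs : ∀ u ∈ upper 2 F, ∃ v ∈ upper 2 F, pr (s * u * s⁻¹) = pr v) : dg a * (s * (dg a)⁻¹ * s⁻¹) ∈ upper 2 F := by
  -- the unipotent `1 + e₁₂`
  let u : Matrix.SpecialLinearGroup (Fin 2) F := ⟨!![1, 1; 0, 1], by rw [det_fin_two_of]; simp⟩
  have hu : u ∈ upper 2 F := by
    rw [mem_upper]
    intro i j hij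
    fin_cases i <;> fin_cases j <;> simp_all [u]
  obtain ⟨v, hv, e⟩ := hs u hu
  have e1 : (v⁻¹ * (s * u * s⁻¹)) ∈ Subgroup.center (Matrix.SpecialLinearGroup (Fin 2) F) := by
    rw [← pr_eq_one_iff, map_mul, map_inv, e, inv_mul_cancel]
  rw [Matrix.SpecialLinearGroup.mem_center_iff] at e1
  obtain ⟨r, -, hr⟩ := e1
  have e2 : ((s * u * s⁻¹ : Matrix.SpecialLinearGroup (Fin 2) F) : Matrix (Fin 2) (Fin 2) F) =
      (v : Matrix (Fin 2) (Fin 2) F) * scalar (Fin 2) r := by
    rw [hr, ← Matrix.SpecialLinearGroup.coe_mul, mul_inv_cancel_left]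
  have hs10 : (s : Matrix (Fin 2) (Fin 2) F) 1 0 = 0 := by
    have e3 := congrFun (congrFun e2 1) 0
    have hv10 : (v : Matrix (Fin 2) (Fin 2) F) 1 0 = 0 := by
      have := hv 1 0 (by decide)
      simpa using this
    rw [Matrix.SpecialLinearGroup.coe_mul, Matrix.SpecialLinearGroup.coe_mul, Matrix.SpecialLinearGroup.coe_inv,
      adjugate_fin_two] at e3
    simp [Matrix.mul_apply, Fin.sum_univ_two, u, Matrix.scalar_apply, hv10, Matrix.diagonal_apply] at e3
    have e4 : (s : Matrix (Fin 2) (Fin 2) F) 1 0 * (s : Matrix (Fin 2) (Fin 2) F) 1 0 = 0 := by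
      linear_combination -e3
    exact mul_self_eq_zero.1 e4
  have hdet : (s : Matrix (Fin 2) (Fin 2) F) 0 0 * (s : Matrix (Fin 2) (Fin 2) F) 1 1 = 1 := by
    have := s.2
    rw [det_fin_two] at this
    rw [hs10, mul_zero, sub_zero] at this
    exact this
  have ha : (a : F) * ((a⁻¹ : Fˣ) : F) = 1 := a.mul_inv
  have hform : ((dg a * (s * (dg a)⁻¹ * s⁻¹) : Matrix.SpecialLinearGroup (Fin 2) F) : Matrix (Fin 2) (Fin 2) F) =
      !![1, ((a : F) * a - 1) * ((s : Matrix (Fin 2) (Fin 2) F) 0 0 * (s : Matrix (Fin 2) (Fin 2) F) 0 1); 0, 1] := by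
    rw [Matrix.SpecialLinearGroup.coe_mul, Matrix.SpecialLinearGroup.coe_mul, Matrix.SpecialLinearGroup.coe_mul,
      Matrix.SpecialLinearGroup.coe_inv, Matrix.SpecialLinearGroup.coe_inv, adjugate_fin_two, adjugate_fin_two,
      Matrix.eta_fin_two (s : Matrix (Fin 2) (Fin 2) F)]
    simp only [dg, Matrix.SpecialLinearGroup.coe_mk, Matrix.mul_fin_two, of_apply, cons_val', cons_val_zero, cons_val_one,
      cons_val_fin_one]
    set x := (s : Matrix (Fin 2) (Fin 2) F) 0 0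
    set y := (s : Matrix (Fin 2) (Fin 2) F) 0 1
    set w := (s : Matrix (Fin 2) (Fin 2) F) 1 0
    set z := (s : Matrix (Fin 2) (Fin 2) F) 1 1
    set b := ((a⁻¹ : Fˣ) : F)
    have hw : w = 0 := hs10
    ext i j
    fin_cases i <;> fin_cases j
    · simp
      linear_combination x * z * ha + hdet - a * a * y * hw
    · simp
      linear_combination -(x * y) * ha
    · simp
      right
      linear_combination (b * z - z * a) * hw
    · simp
      linear_combination x * z * ha + hdet - b * b * y * hw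
  rw [mem_upper]
  intro i j hij
  rw [hform]
  clear hform
  fin_cases i <;> fin_cases j
  · simp
  · exact absurd hij (by decide)
  · simp
  · simp

end Tor

section Main

variable {F : Type*} [Field F]

/-- the field automorphisms occurring in `A` -/
def Sig (A : Subgroup (MulAut (Matrix.ProjectiveSpecialLinearGroup (Fin 2) F))) : Subgroup (F ≃+* F) where
  carrier := {σ | ∃ s, MulAut.conj s * lift (fld σ) ∈ A}
  one_mem' := ⟨1, by rw [map_one, map_one, map_one, mul_one]; exact one_mem _⟩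
  mul_mem' := by
    rintro σ τ ⟨s, hs⟩ ⟨t, ht⟩
    refine ⟨s * lift (fld σ) t, ?_⟩
    have h1 : MulAut.conj (s * lift (fld σ) t) * lift (fld (σ * τ)) =
        (MulAut.conj s * lift (fld σ)) * (MulAut.conj t * lift (fld τ)) := by
      rw [map_mul, ← Gmn.mul_conj_inv, map_mul fld, map_mul lift]
      group
    rw [h1]
    exact mul_mem hs ht
  inv_mem' := by
    rintro σ ⟨s, hs⟩
    refine ⟨lift (fld σ)⁻¹ s⁻¹, ?_⟩
    have h1 : MulAut.conj (lift (fld σ)⁻¹ s⁻¹) * lift (fld σ⁻¹) = (MulAut.conj s * lift (fld σ))⁻¹ := by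
      rw [map_inv fld, map_inv lift, ← Gmn.mul_conj_inv, map_inv MulAut.conj]
      group
    rw [h1]
    exact inv_mem hs

variable [Fintype F] {p : ℕ} [Fact p.Prime] [CharP F p]

/-- the fixed field of `Sig A` is small -/
theorem sq_eq_one (hp2 : p ≠ 2) {A : Subgroup (MulAut (Matrix.ProjectiveSpecialLinearGroup (Fin 2) F))}
    (hA : IsPGroup p A) (hQ : ∀ x, MulAut.conj x ∈ A ↔ x ∈ (upper 2 F).map pr)
    (hno : ∀ h, ¬ p ∣ orderOf h → (∀ a ∈ A, MulAut.conj h * a * (MulAut.conj h)⁻¹ ∈ A) → h = 1)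
    {a : Fˣ} (ha : ∀ σ ∈ Sig A, σ (a : F) = a) : (a : F) * a = 1 := by
  classical
  apply pr_dg_eq_one
  apply hno
  · -- the order divides `q - 1`
    intro hd
    have h1 : (pr (dg a)) ^ (Fintype.card F - 1) = 1 := by
      have h2 : a ^ (Fintype.card F - 1) = 1 := by
        rw [← Fintype.card_units]
        exact pow_card_eq_one
      have h3 : dgHom a = dg a := rfl
      rw [← h3, ← map_pow, ← map_pow, h2, map_one, map_one]
    have h2 : p ∣ Fintype.card F - 1 := hd.trans (orderOf_dvd_of_pow_eq_one h1)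
    obtain ⟨n, -, hn⟩ := FiniteField.card F p
    have h3 : p ∣ Fintype.card F := by
      rw [hn]
      exact dvd_pow_self p n.ne_zero
    have h4 : p ∣ 1 := by
      have h5 : 0 < Fintype.card F := Fintype.card_pos
      have := (Nat.dvd_sub h3 h2)
      rwa [show Fintype.card F - (Fintype.card F - 1) = 1 by omega] at this
    exact (Nat.Prime.one_lt Fact.out).ne' (Nat.dvd_one.1 h4)
  · intro α hα
    obtain ⟨k, hk⟩ := hA ⟨α, hα⟩
    have hk' : α ^ p ^ k = 1 := congrArg Subtype.val hk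
    have hodd : Odd (p ^ k) := ((Nat.Prime.odd_of_ne_two Fact.out hp2).pow)
    obtain ⟨s, σ, hs⟩ := exists_dec hp2 hodd hk'
    have hσ : σ ∈ Sig A := ⟨s, by rw [← hs]; exact hα⟩
    obtain ⟨S, rfl⟩ := pr_surjective s
    have h1 : MulAut.conj (pr (dg a)) * α * (MulAut.conj (pr (dg a)))⁻¹ =
        MulAut.conj (pr (dg a) * (α (pr (dg a)))⁻¹) * α := by
      rw [map_mul, map_inv, ← Gmn.mul_conj_inv]
      group
    rw [h1]
    refine mul_mem ((hQ _).2 ?_) hα
    have h2 : α (pr (dg a)) = pr (S * dg a * S⁻¹) := by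
      rw [hs, MulAut.mul_apply, lift_pr, fld_dg σ a (ha σ hσ), MulAut.conj_apply, map_mul, map_mul, map_inv]
    rw [h2]
    refine ⟨_, comm_mem a (s := S) ?_, ?_⟩
    · intro u hu
      have h3 : lift (fld σ⁻¹) (pr u) ∈ (upper 2 F).map pr := by
        refine ⟨fld σ⁻¹ u, ?_, rfl⟩
        rw [SetLike.mem_coe, mem_upper]
        intro i j hij
        rw [coe_fld_apply, hu i j hij]
        split_ifs
        · rw [map_one]
        · rw [map_zero]
      have h4 : MulAut.conj (α (lift (fld σ⁻¹) (pr u))) ∈ A := by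
        rw [← Gmn.mul_conj_inv]
        exact mul_mem (mul_mem hα ((hQ _).2 h3)) (inv_mem hα)
      have h5 : α (lift (fld σ⁻¹) (pr u)) = pr (S * u * S⁻¹) := by
        rw [hs, map_inv fld, map_inv lift, MulAut.mul_apply, MulAut.apply_inv_self, MulAut.conj_apply, map_mul,
          map_mul, map_inv]
      rw [h5, hQ] at h4
      obtain ⟨v, hv, e⟩ := h4
      exact ⟨v, hv, e.symm⟩
    · rw [map_mul, map_mul, map_mul, map_mul, map_mul, map_inv, map_inv]
      group

/-- a field with `a * a = 1` for all units -/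
theorem card_eq_three {K : Type*} [Field K] [Fintype K] {p : ℕ} [Fact p.Prime] [CharP K p] (hp2 : p ≠ 2)
    (h : ∀ a : Kˣ, (a : K) * a = 1) : p = 3 ∧ Fintype.card K = 3 := by
  classical
  have h1 : Fintype.card K ≤ 3 := by
    have h2 : (Finset.univ : Finset K) ⊆ {0, 1, -1} := by
      intro x _
      by_cases hx : x = 0
      · rw [hx]; simp
      · have h3 := h (Units.mk0 x hx)
        rw [Units.val_mk0] at h3
        rcases mul_self_eq_one_iff.1 h3 with h4 | h4 <;> rw [h4] <;> simp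
    have h3 := Finset.card_le_card h2
    rw [Finset.card_univ] at h3
    exact h3.trans Finset.card_le_three
  obtain ⟨n, hpp, hn⟩ := FiniteField.card K p
  have h2 : p ^ 1 ≤ Fintype.card K := by
    rw [hn]
    exact Nat.pow_le_pow_right hpp.pos n.pos
  rw [pow_one] at h2
  have h3 : 3 ≤ p := by
    have := hpp.two_le
    omega
  exact ⟨by omega, by omega⟩

omit [Fintype F] in
theorem lift_fld_injective {σ τ : F ≃+* F} {s : Matrix.SpecialLinearGroup (Fin 2) F}
    (h : MulAut.conj (pr s) * lift (fld σ) = lift (fld τ)) : σ = τ := by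
  have h1 : ∃ C : GL (Fin 2) F, lift (cj C) = MulAut.conj (pr s) := by
    refine ⟨Matrix.SpecialLinearGroup.toGL s, ?_⟩
    apply MulEquiv.ext
    intro x
    obtain ⟨x, rfl⟩ := pr_surjective x
    rw [lift_pr, MulAut.conj_apply, ← map_inv, ← map_mul, ← map_mul]
    congr 1
  obtain ⟨C, hC⟩ := h1
  have h2 : lift (cj C * fld σ) = lift (fld τ) := by rw [map_mul, hC, h]
  exact (injective_aux h2).2

/-- **The exceptional case**, for the standard Sylow subgroup. -/
theorem exc_std (hp2 : p ≠ 2) {A : Subgroup (MulAut (Matrix.ProjectiveSpecialLinearGroup (Fin 2) F))}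
    (hA : IsPGroup p A) (hQ : ∀ x, MulAut.conj x ∈ A ↔ x ∈ (upper 2 F).map pr)
    (hno : ∀ h, ¬ p ∣ orderOf h → (∀ a ∈ A, MulAut.conj h * a * (MulAut.conj h)⁻¹ ∈ A) → h = 1) :
    p = 3 ∧ (∃ k, Fintype.card F = 3 ^ 3 ^ k) ∧ Sig A = ⊤ := by
  classical
  have : Finite (F ≃+* F) := Finite.of_injective (fun σ : F ≃+* F => (σ : F → F)) DFunLike.coe_injective
  let _ : Fintype (Sig A) := Fintype.ofFinite _
  let _ : Fintype (F ≃+* F) := Fintype.ofFinite _
  let K := FixedPoints.subfield (Sig A) F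
  let _ : Fintype K := Fintype.ofFinite _
  have hKp : CharP K p := (RingHom.charP_iff K.subtype K.subtype_injective p).2 inferInstance
  obtain ⟨hp3, hK⟩ := card_eq_three (K := K) hp2 (fun a => by
    let a' : Fˣ := Units.map (K.subtype : K →* F) a
    have h1 : (a' : F) * a' = 1 := by
      refine sq_eq_one hp2 hA hQ hno fun σ hσ => ?_
      exact (a : K).2 ⟨σ, hσ⟩
    exact Subtype.ext h1)
  have h1 := Module.card_eq_pow_finrank (K := K) (V := F)
  rw [FixedPoints.finrank_eq_card, hK] at h1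
  -- all field automorphisms
  let K' := FixedPoints.subfield (F ≃+* F) F
  let _ : Fintype K' := Fintype.ofFinite _
  have hKp' : CharP K' p := (RingHom.charP_iff K'.subtype K'.subtype_injective p).2 inferInstance
  have h2 := Module.card_eq_pow_finrank (K := K') (V := F)
  rw [FixedPoints.finrank_eq_card] at h2
  have h3 : 3 ≤ Fintype.card K' := by
    obtain ⟨n, hpp, hn⟩ := FiniteField.card K' p
    rw [hn, hp3]
    calc 3 = 3 ^ 1 := rfl
      _ ≤ 3 ^ (n : ℕ) := Nat.pow_le_pow_right (by norm_num) n.pos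
  have h4 : Fintype.card (F ≃+* F) ≤ Fintype.card (Sig A) := by
    have h5 : 3 ^ Fintype.card (F ≃+* F) ≤ 3 ^ Fintype.card (Sig A) := by
      rw [← h1, h2]
      exact Nat.pow_le_pow_left h3 _
    exact (Nat.pow_le_pow_iff_right (by norm_num)).1 h5
  have htop : Sig A = ⊤ := by
    refine Subgroup.eq_top_of_card_eq _ ?_
    rw [Nat.card_eq_fintype_card, Nat.card_eq_fintype_card]
    exact le_antisymm (Fintype.card_le_of_injective _ Subtype.val_injective) h4
  refine ⟨hp3, ?_, htop⟩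
  -- `Sig A` is a `3`-group
  have hSp : IsPGroup 3 (Sig A) := by
    rintro ⟨σ, s, hs⟩
    obtain ⟨k, hk⟩ := hA ⟨_, hs⟩
    have hk' : (MulAut.conj s * lift (fld σ)) ^ p ^ k = 1 := congrArg Subtype.val hk
    refine ⟨k, Subtype.ext ?_⟩
    show σ ^ 3 ^ k = 1
    rw [← hp3]
    have h5 : ∀ n : ℕ, ∃ t, (MulAut.conj s * lift (fld σ)) ^ n = MulAut.conj t * lift (fld (σ ^ n)) := by
      intro n
      induction n with
      | zero => exact ⟨1, by simp⟩
      | succ n ih =>
        obtain ⟨t, ht⟩ := ih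
        refine ⟨t * lift (fld (σ ^ n)) s, ?_⟩
        rw [pow_succ, ht, pow_succ, map_mul, ← Gmn.mul_conj_inv, map_mul fld, map_mul lift]
        group
    obtain ⟨t, ht⟩ := h5 (p ^ k)
    obtain ⟨T, rfl⟩ := pr_surjective t
    rw [hk'] at ht
    refine lift_fld_injective (s := T) ?_
    rw [← ht, map_one, map_one]
  obtain ⟨k, hk⟩ := hSp.exists_card_eq
  refine ⟨k, ?_⟩
  rw [h1, ← Nat.card_eq_fintype_card (α := Sig A), hk]

/-- **The exceptional case of the Guralnick–Malle–Navarro theorem.** -/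
theorem exc (hp2 : p ≠ 2) (hZ : center (Matrix.ProjectiveSpecialLinearGroup (Fin 2) F) = ⊥)
    {A : Subgroup (MulAut (Matrix.ProjectiveSpecialLinearGroup (Fin 2) F))}
    (hA : IsPGroup p A) (Q : Sylow p (Matrix.ProjectiveSpecialLinearGroup (Fin 2) F)) (hQ : ∀ x ∈ Q, MulAut.conj x ∈ A)
    (hno : ∀ h, ¬ p ∣ orderOf h → (∀ a ∈ A, MulAut.conj h * a * (MulAut.conj h)⁻¹ ∈ A) → h = 1) :
    p = 3 ∧ (∃ k, Fintype.card F = 3 ^ 3 ^ k) ∧ ∀ σ : F ≃+* F, ∃ s, MulAut.conj s * lift (fld σ) ∈ A := by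
  obtain ⟨U, hU⟩ := exists_sylow (F := F) 2 p
  obtain ⟨g, hg⟩ := MulAction.exists_smul_eq (Matrix.ProjectiveSpecialLinearGroup (Fin 2) F) Q U
  let c : MulAut (Matrix.ProjectiveSpecialLinearGroup (Fin 2) F) := MulAut.conj g
  let B : Subgroup (MulAut (Matrix.ProjectiveSpecialLinearGroup (Fin 2) F)) := A.map (MulAut.conj c).toMonoidHom
  have hmem : ∀ x, x ∈ B ↔ c⁻¹ * x * c ∈ A := by
    intro x
    constructor
    · rintro ⟨a, ha, rfl⟩
      have h1 : c⁻¹ * (MulAut.conj c).toMonoidHom a * c = a := by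
        show c⁻¹ * (c * a * c⁻¹) * c = a
        group
      rw [h1]
      exact ha
    · intro h
      refine ⟨_, h, ?_⟩
      show c * (c⁻¹ * x * c) * c⁻¹ = x
      group
  have hB : IsPGroup p B := hA.map _
  have hcc : ∀ x, c⁻¹ * MulAut.conj x * c = MulAut.conj (g⁻¹ * x * g) := by
    intro x
    rw [map_mul, map_mul, map_inv]
  have hQB : ∀ x, MulAut.conj x ∈ B ↔ x ∈ (upper 2 F).map pr := by
    intro x
    rw [hmem, hcc, ← hU]
    have h1 : x ∈ (U : Subgroup (Matrix.ProjectiveSpecialLinearGroup (Fin 2) F)) ↔ g⁻¹ * x * g ∈ Q := by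
      rw [← hg]
      constructor
      · rintro ⟨y, hy, rfl⟩
        have h2 : g⁻¹ * (g * y * g⁻¹) * g = y := by group
        show g⁻¹ * (g * y * g⁻¹) * g ∈ Q
        rw [h2]
        exact hy
      · intro h
        refine ⟨_, h, ?_⟩
        show g * (g⁻¹ * x * g) * g⁻¹ = x
        group
    rw [h1]
    exact ⟨fun h => Gmn.mem_sylow_of_conj_mem hZ hA Q hQ h, hQ _⟩
  obtain ⟨h1, h2, h3⟩ := exc_std hp2 hB hQB (fun h hh hn => by
    have h4 : g⁻¹ * h * g = 1 := by
      refine hno _ ?_ fun a ha => ?_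
      · have h5 : orderOf (g⁻¹ * h * g) = orderOf h := by
          have h6 : g⁻¹ * h * g = MulAut.conj g⁻¹ h := by rw [MulAut.conj_apply, inv_inv]
          rw [h6]
          exact orderOf_injective (MulAut.conj g⁻¹).toMonoidHom (MulAut.conj g⁻¹).injective h
        rw [h5]
        exact hh
      · have h5 := hn (c * a * c⁻¹) ((hmem _).2 (by
          have h6 : c⁻¹ * (c * a * c⁻¹) * c = a := by group
          rw [h6]
          exact ha))
        rw [hmem] at h5
        rw [← hcc]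
        have h6 : c⁻¹ * MulAut.conj h * c * a * (c⁻¹ * MulAut.conj h * c)⁻¹ =
            c⁻¹ * (MulAut.conj h * (c * a * c⁻¹) * (MulAut.conj h)⁻¹) * c := by group
        rw [h6]
        exact h5
    calc h = g * (g⁻¹ * h * g) * g⁻¹ := by group
      _ = 1 := by rw [h4]; group)
  refine ⟨h1, h2, fun σ => ?_⟩
  obtain ⟨s, hs⟩ : σ ∈ Sig B := by rw [h3]; trivial
  rw [hmem] at hs
  refine ⟨g⁻¹ * s * lift (fld σ) g, ?_⟩
  have h4 : MulAut.conj (g⁻¹ * s * lift (fld σ) g) * lift (fld σ) = c⁻¹ * (MulAut.conj s * lift (fld σ)) * c := by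
    rw [map_mul, map_mul, map_inv, ← Gmn.mul_conj_inv]
    change (MulAut.conj g)⁻¹ * MulAut.conj s * (lift (fld σ) * MulAut.conj g * (lift (fld σ))⁻¹) * lift (fld σ) =
      (MulAut.conj g)⁻¹ * (MulAut.conj s * lift (fld σ)) * MulAut.conj g
    group
  rw [h4]
  exact hs

/-- the exceptional case, with matrices and the Frobenius automorphism -/
theorem exc_frob (hp2 : p ≠ 2) (hZ : center (Matrix.ProjectiveSpecialLinearGroup (Fin 2) F) = ⊥)
    {A : Subgroup (MulAut (Matrix.ProjectiveSpecialLinearGroup (Fin 2) F))}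
    (hA : IsPGroup p A) (Q : Sylow p (Matrix.ProjectiveSpecialLinearGroup (Fin 2) F)) (hQ : ∀ x ∈ Q, MulAut.conj x ∈ A)
    (hno : ∀ h, ¬ p ∣ orderOf h → (∀ a ∈ A, MulAut.conj h * a * (MulAut.conj h)⁻¹ ∈ A) → h = 1) :
    p = 3 ∧ (∃ k, Fintype.card F = 3 ^ 3 ^ k) ∧ ¬ IsSquare (-1 : F) ∧
    ∃ (σ : F ≃+* F) (M : Matrix.SpecialLinearGroup (Fin 2) F), ∃ α ∈ A, (∀ c, σ c = c ^ 3) ∧
      (∀ c, σ c = c → c = 0 ∨ c = 1 ∨ c = -1) ∧
      ∀ x : Matrix.SpecialLinearGroup (Fin 2) F, α (pr x) = pr (M * fld σ x * M⁻¹) := by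
  obtain ⟨h1, ⟨k, hk⟩, h3⟩ := exc hp2 hZ hA Q hQ hno
  subst h1
  have hF3 : CharP F 3 := inferInstance
  let σ : F ≃+* F := frobeniusEquiv F 3
  have hσ : ∀ c, σ c = c ^ 3 := fun c => rfl
  obtain ⟨s, hs⟩ := h3 σ
  obtain ⟨M, rfl⟩ := pr_surjective s
  refine ⟨rfl, ⟨k, hk⟩, ?_, σ, M, _, hs, hσ, ?_, ?_⟩
  · have h4 : Fintype.card F % 4 = 3 := by
      rw [hk]
      obtain ⟨m, hm⟩ : Odd (3 ^ k) := Odd.pow (by decide)
      rw [hm, pow_add, pow_mul, Nat.mul_mod, Nat.pow_mod]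
      norm_num
    intro h5
    exact (FiniteField.isSquare_neg_one_iff.1 h5) h4
  · intro c hc
    rw [hσ] at hc
    have h4 : c * ((c - 1) * (c + 1)) = 0 := by linear_combination hc
    rcases mul_eq_zero.1 h4 with h5 | h5
    · exact Or.inl h5
    · rcases mul_eq_zero.1 h5 with h6 | h6
      · exact Or.inr (Or.inl (sub_eq_zero.1 h6))
      · exact Or.inr (Or.inr (eq_neg_of_add_eq_zero_left h6))
  · intro x
    rw [MulAut.mul_apply, lift_pr, MulAut.conj_apply, map_mul, map_mul, map_inv]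

end Main

end Cfsg.Agent.H712.Exc
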