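import Mathlib
import Cfsg.Agent.H712.GmnNN
import Cfsg.Agent.H711.RowCount
import Cfsg.Agent.NotCT.Orders
import Cfsg.Agent.CpAutTits.Row
import Cfsg.Agent.S2060
import Cfsg.Agent.S2061
import Cfsg.Agent.S2062
import Cfsg.Agent.S2063
import Cfsg.Agent.S2064
import Cfsg.Agent.S2065
import Cfsg.Agent.S2066
import Cfsg.Agent.S2067
import Cfsg.Agent.S2068
import Cfsg.Agent.S2069
import Cfsg.Agent.S2070
import Cfsg.Agent.S2071
import Cfsg.Agent.S2073
import Cfsg.Agent.S2072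
import Cfsg.Agent.S2074
import Cfsg.Agent.S2075
import Cfsg.Agent.S2077
import Cfsg.Agent.S2078
import Cfsg.Agent.S2076
import Cfsg.Agent.S2079
import Cfsg.Agent.S2080
import Cfsg.Agent.S2081
import Cfsg.Agent.S2082
import Cfsg.Agent.S2083
import Cfsg.Agent.S2084
import Cfsg.Agent.S2085

/-!
# The sporadic groups and the Tits group: `RowS p` for `p ≥ 5`, and for `p = 3` if `81 ∤ |X|` (helper712)

Input: `|Out X| ≤ 2` (S2060 - S2085) and the transfer theorems S1991, S2807.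
-/

set_option autoImplicit false

open Subgroup

namespace Cfsg.Agent.H712.GmnSpor

open Cfsg Cfsg.Agent.H711.Crit Cfsg.Agent.H712.Gmn

universe u v

theorem not_prime {n : ℕ} (h : 4 ∣ n) : ¬ n.Prime := by
  intro hp
  obtain ⟨c, rfl⟩ := h
  have h2 : (2 : ℕ) ∣ 4 * c := ⟨2 * c, by ring⟩
  have := (Nat.prime_dvd_prime_iff_eq Nat.prime_two hp).1 h2
  omega

section

variable {p : ℕ} [hp : Fact p.Prime] {X : Type u} [Group X] [Finite X] [IsSimpleGroup X]

theorem nn_of (hp2 : p ≠ 2) {n : ℕ} (hn : Nat.card X = n) (h4 : 4 ∣ n) (hd : p ∣ Nat.card X) (h : 5 ≤ p ∨ ¬ 81 ∣ n) : NN p X := by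
  by_cases h5 : 5 ≤ p
  · exact GmnNN.nn_of_five h5 hd (hn ▸ not_prime h4)
  · have h3 : p = 3 := by
      have := hp.out.two_le
      have h6 : p = 3 ∨ p = 4 := by omega
      rcases h6 with h6 | h6
      · exact h6
      · exact absurd hp.out (h6 ▸ by norm_num)
    subst h3
    exact GmnNN.nn_of_three hd (hn ▸ h.resolve_left h5) (hn ▸ not_prime h4)

/-- `RowS p` from the order and the order of the outer automorphism group of the standard copy -/
theorem row_of (hp2 : p ≠ 2) (hd : p ∣ Nat.card X) {n : ℕ} (hn : Nat.card X = n) (h4 : 4 ∣ n) (h : 5 ≤ p ∨ ¬ 81 ∣ n)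
    {S : Type v} [Group S] (e : X ≃* S) {k : ℕ} (hOut : Nat.card (Out S) = k) (hk : k ∣ 2) : RowS p X := by
  have hS : IsSimpleGroup S := e.isSimpleGroup_congr.1 inferInstance
  have hF : Finite S := Finite.of_equiv X e.toEquiv
  have hc : Nat.card S = n := by rw [← hn]; exact (Nat.card_congr e.toEquiv).symm
  refine (rowS_of_NN (H711.RowCount.center_eq_bot (hc ▸ not_prime h4)) ?_ (nn_of hp2 hc h4 ?_ h)).congr e.symm
  · intro h0
    have h1 : p ∣ Nat.card (Out S) := h0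
    rw [hOut] at h1
    exact hp2 ((Nat.prime_dvd_prime_iff_eq hp.out Nat.prime_two).1 (h1.trans hk))
  · rw [hc, ← hn]
    exact hd

theorem row_of_index (hp2 : p ≠ 2) (hd : p ∣ Nat.card X) {n : ℕ} (hn : Nat.card X = n) (h4 : 4 ∣ n) (h : 5 ≤ p ∨ ¬ 81 ∣ n)
    {S : Type v} [Group S] (e : X ≃* S) (hi : (MulAut.conj : S →* MulAut S).range.index ∣ 2) : RowS p X :=
  row_of hp2 hd hn h4 h e (k := (MulAut.conj : S →* MulAut S).range.index) rfl hi

theorem m11 (hp2 : p ≠ 2) (hd : p ∣ Nat.card X) (h : Spor.IsoM11 X) : RowS p X := by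
  obtain ⟨e⟩ := id h
  exact row_of hp2 hd (NotCT.Orders.m11 h) (by norm_num) (Or.inr (by norm_num)) e S2060.result (by norm_num)

theorem m12 (hp2 : p ≠ 2) (hd : p ∣ Nat.card X) (h : Spor.IsoM12 X) : RowS p X := by
  obtain ⟨e⟩ := id h
  exact row_of hp2 hd (NotCT.Orders.m12 h) (by norm_num) (Or.inr (by norm_num)) e S2061.result (by norm_num)

theorem m22 (hp2 : p ≠ 2) (hd : p ∣ Nat.card X) (h : Spor.IsoM22 X) : RowS p X := by
  obtain ⟨e⟩ := id h
  exact row_of hp2 hd (NotCT.Orders.m22 h) (by norm_num) (Or.inr (by norm_num)) e S2062.result (by norm_num)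

theorem m23 (hp2 : p ≠ 2) (hd : p ∣ Nat.card X) (h : Spor.IsoM23 X) : RowS p X := by
  obtain ⟨e⟩ := id h
  exact row_of hp2 hd (NotCT.Orders.m23 h) (by norm_num) (Or.inr (by norm_num)) e S2063.result (by norm_num)

theorem m24 (hp2 : p ≠ 2) (hd : p ∣ Nat.card X) (h : Spor.IsoM24 X) : RowS p X := by
  obtain ⟨e⟩ := id h
  exact row_of hp2 hd (NotCT.Orders.m24 h) (by norm_num) (Or.inr (by norm_num)) e S2064.result (by norm_num)

theorem j1 (hp2 : p ≠ 2) (hd : p ∣ Nat.card X) (h : Spor.IsoJ1 X) : RowS p X := by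
  obtain ⟨e⟩ := id h
  exact row_of hp2 hd (NotCT.Orders.j1 h) (by norm_num) (Or.inr (by norm_num)) e S2065.result (by norm_num)

theorem j2 (hp2 : p ≠ 2) (hd : p ∣ Nat.card X) (h : Spor.IsoJ2 X) : RowS p X := by
  obtain ⟨e⟩ := id h
  exact row_of hp2 hd (NotCT.Orders.j2 h) (by norm_num) (Or.inr (by norm_num)) e S2066.result (by norm_num)

theorem j3 (hp2 : p ≠ 2) (h5 : 5 ≤ p) (hd : p ∣ Nat.card X) (h : Spor.IsoJ3 X) : RowS p X := by
  obtain ⟨F, _, _, ω, hF, hω, ⟨e⟩⟩ := id h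
  exact row_of hp2 hd (NotCT.Orders.j3 h) (by norm_num) (Or.inl h5) e (S2067.result hF ω hω) (by norm_num)

theorem j4 (hp2 : p ≠ 2) (hd : p ∣ Nat.card X) (h : Spor.IsoJ4 X) : RowS p X := by
  obtain ⟨e⟩ := id h
  exact row_of hp2 hd (NotCT.Orders.j4 h) (by norm_num) (Or.inr (by norm_num)) e S2068.result (by norm_num)

theorem co1 (hp2 : p ≠ 2) (h5 : 5 ≤ p) (hd : p ∣ Nat.card X) (h : Spor.IsoCo1 X) : RowS p X := by
  obtain ⟨e⟩ := id h
  exact row_of hp2 hd (NotCT.Orders.co1 h) (by norm_num) (Or.inl h5) e S2069.result (by norm_num)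

theorem co2 (hp2 : p ≠ 2) (h5 : 5 ≤ p) (hd : p ∣ Nat.card X) (h : Spor.IsoCo2 X) : RowS p X := by
  obtain ⟨e⟩ := id h
  exact row_of hp2 hd (NotCT.Orders.co2 h) (by norm_num) (Or.inl h5) e S2070.result (by norm_num)

theorem co3 (hp2 : p ≠ 2) (h5 : 5 ≤ p) (hd : p ∣ Nat.card X) (h : Spor.IsoCo3 X) : RowS p X := by
  obtain ⟨e⟩ := id h
  exact row_of hp2 hd (NotCT.Orders.co3 h) (by norm_num) (Or.inl h5) e S2071.result (by norm_num)

theorem mcl (hp2 : p ≠ 2) (h5 : 5 ≤ p) (hd : p ∣ Nat.card X) (h : Spor.IsoMcL X) : RowS p X := by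
  obtain ⟨e⟩ := id h
  exact row_of hp2 hd (NotCT.Orders.mcl h) (by norm_num) (Or.inl h5) e S2073.result (by norm_num)

theorem hs (hp2 : p ≠ 2) (hd : p ∣ Nat.card X) (h : Spor.IsoHS X) : RowS p X := by
  obtain ⟨e⟩ := id h
  exact row_of hp2 hd (NotCT.Orders.hs h) (by norm_num) (Or.inr (by norm_num)) e S2072.result (by norm_num)

theorem suz (hp2 : p ≠ 2) (h5 : 5 ≤ p) (hd : p ∣ Nat.card X) (h : Spor.IsoSuz X) : RowS p X := by
  obtain ⟨e⟩ := id h
  exact row_of hp2 hd (NotCT.Orders.suz h) (by norm_num) (Or.inl h5) e S2074.result (by norm_num)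

theorem he (hp2 : p ≠ 2) (hd : p ∣ Nat.card X) (h : Spor.IsoHe X) : RowS p X := by
  obtain ⟨e⟩ := id h
  exact row_of hp2 hd (NotCT.Orders.he h) (by norm_num) (Or.inr (by norm_num)) e S2075.result (by norm_num)

theorem ru (hp2 : p ≠ 2) (hd : p ∣ Nat.card X) (h : Spor.IsoRu X) : RowS p X := by
  obtain ⟨e⟩ := id h
  exact row_of hp2 hd (NotCT.Orders.ru h) (by norm_num) (Or.inr (by norm_num)) e S2077.result (by norm_num)

theorem on (hp2 : p ≠ 2) (h5 : 5 ≤ p) (hd : p ∣ Nat.card X) (h : Spor.IsoON X) : RowS p X := by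
  obtain ⟨e⟩ := id h
  exact row_of hp2 hd (NotCT.Orders.on h) (by norm_num) (Or.inl h5) e S2078.result (by norm_num)

theorem ly (hp2 : p ≠ 2) (h5 : 5 ≤ p) (hd : p ∣ Nat.card X) (h : Spor.IsoLy X) : RowS p X := by
  obtain ⟨e⟩ := id h
  exact row_of hp2 hd (NotCT.Orders.ly h) (by norm_num) (Or.inl h5) e S2076.result (by norm_num)

theorem fi22 (hp2 : p ≠ 2) (h5 : 5 ≤ p) (hd : p ∣ Nat.card X) (h : Spor.IsoFi22 X) : RowS p X := by
  obtain ⟨e⟩ := id h
  exact row_of hp2 hd (NotCT.Orders.fi22 h) (by norm_num) (Or.inl h5) e S2079.result (by norm_num)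

theorem fi23 (hp2 : p ≠ 2) (h5 : 5 ≤ p) (hd : p ∣ Nat.card X) (h : Spor.IsoFi23 X) : RowS p X := by
  obtain ⟨e⟩ := id h
  exact row_of hp2 hd (NotCT.Orders.fi23 h) (by norm_num) (Or.inl h5) e S2080.result (by norm_num)

theorem fi24 (hp2 : p ≠ 2) (h5 : 5 ≤ p) (hd : p ∣ Nat.card X) (h : Spor.IsoFi24' X) : RowS p X := by
  obtain ⟨e⟩ := id h
  exact row_of hp2 hd (NotCT.Orders.fi24 h) (by norm_num) (Or.inl h5) e S2081.result (by norm_num)

theorem hn (hp2 : p ≠ 2) (h5 : 5 ≤ p) (hd : p ∣ Nat.card X) (h : Spor.IsoHN X) : RowS p X := by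
  obtain ⟨e⟩ := id h
  exact row_of hp2 hd (NotCT.Orders.hn h) (by norm_num) (Or.inl h5) e S2082.result (by norm_num)

theorem th (hp2 : p ≠ 2) (h5 : 5 ≤ p) (hd : p ∣ Nat.card X) (h : Spor.IsoTh X) : RowS p X := by
  obtain ⟨e⟩ := id h
  exact row_of hp2 hd (NotCT.Orders.th h) (by norm_num) (Or.inl h5) e S2083.result (by norm_num)

theorem b (hp2 : p ≠ 2) (h5 : 5 ≤ p) (hd : p ∣ Nat.card X) (h : Spor.IsoB X) : RowS p X := by
  obtain ⟨e⟩ := id h
  exact row_of hp2 hd (NotCT.Orders.b h) (by norm_num) (Or.inl h5) e S2084.result (by norm_num)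

theorem m (hp2 : p ≠ 2) (h5 : 5 ≤ p) (hd : p ∣ Nat.card X) (h : Spor.IsoM X) : RowS p X := by
  obtain ⟨e⟩ := id h
  exact row_of hp2 hd (NotCT.Orders.m h) (by norm_num) (Or.inl h5) e S2085.result (by norm_num)

theorem tits (hp2 : p ≠ 2) (hd : p ∣ Nat.card X) (h : Lie.IsoTits X) : RowS p X := by
  obtain ⟨e⟩ := CpAutTits.Row.exists_equiv h
  have hfin : Finite Cfsg.Agent.FourTwo.Base.LL := by infer_instance
  have hi := Cfsg.Agent.TitsK.tdata.index_inn
  have key := row_of_index (S := ↥Cfsg.Agent.TitsK.TT) (X := X) (n := 17971200) hp2 hd (NotCT.Orders.tits h)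
    (by norm_num) (Or.inr (by norm_num)) e
  exact key hi

/-- all sporadic groups, `p ≥ 5` -/
theorem spor_five (h5 : 5 ≤ p) (hd : p ∣ Nat.card X) (h : IsSporadicGroup X) : RowS p X := by
  have hp2 : p ≠ 2 := by omega
  rcases h with h | h | h | h | h | h | h | h | h | h | h | h | h | h | h | h | h | h | h | h | h | h | h | h | h | h
  · exact m11 hp2 hd h
  · exact m12 hp2 hd h
  · exact m22 hp2 hd h
  · exact m23 hp2 hd h
  · exact m24 hp2 hd h
  · exact j1 hp2 hd h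
  · exact j2 hp2 hd h
  · exact j3 hp2 h5 hd h
  · exact j4 hp2 hd h
  · exact co1 hp2 h5 hd h
  · exact co2 hp2 h5 hd h
  · exact co3 hp2 h5 hd h
  · exact mcl hp2 h5 hd h
  · exact hs hp2 hd h
  · exact suz hp2 h5 hd h
  · exact he hp2 hd h
  · exact ru hp2 hd h
  · exact on hp2 h5 hd h
  · exact ly hp2 h5 hd h
  · exact fi22 hp2 h5 hd h
  · exact fi23 hp2 h5 hd h
  · exact fi24 hp2 h5 hd h
  · exact hn hp2 h5 hd h
  · exact th hp2 h5 hd h
  · exact b hp2 h5 hd h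
  · exact m hp2 h5 hd h

/-- the sporadic groups of order divisible by `81` -/
def Big (X : Type*) [Group X] : Prop :=
  Spor.IsoJ3 X ∨ Spor.IsoCo1 X ∨ Spor.IsoCo2 X ∨ Spor.IsoCo3 X ∨ Spor.IsoMcL X ∨ Spor.IsoSuz X ∨ Spor.IsoON X ∨ Spor.IsoLy X ∨ Spor.IsoFi22 X ∨ Spor.IsoFi23 X ∨ Spor.IsoFi24' X ∨ Spor.IsoHN X ∨ Spor.IsoTh X ∨ Spor.IsoB X ∨ Spor.IsoM X

/-- all sporadic groups, `p = 3`, up to those of order divisible by `81` -/
theorem spor_three (hp2 : p ≠ 2) (hd : p ∣ Nat.card X) (h : IsSporadicGroup X) : RowS p X ∨ Big X := by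
  rcases h with h | h | h | h | h | h | h | h | h | h | h | h | h | h | h | h | h | h | h | h | h | h | h | h | h | h
  · exact Or.inl (m11 hp2 hd h)
  · exact Or.inl (m12 hp2 hd h)
  · exact Or.inl (m22 hp2 hd h)
  · exact Or.inl (m23 hp2 hd h)
  · exact Or.inl (m24 hp2 hd h)
  · exact Or.inl (j1 hp2 hd h)
  · exact Or.inl (j2 hp2 hd h)
  · right; unfold Big; tauto
  · exact Or.inl (j4 hp2 hd h)
  · right; unfold Big; tauto
  · right; unfold Big; tauto
  · right; unfold Big; tauto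
  · right; unfold Big; tauto
  · exact Or.inl (hs hp2 hd h)
  · right; unfold Big; tauto
  · exact Or.inl (he hp2 hd h)
  · exact Or.inl (ru hp2 hd h)
  · right; unfold Big; tauto
  · right; unfold Big; tauto
  · right; unfold Big; tauto
  · right; unfold Big; tauto
  · right; unfold Big; tauto
  · right; unfold Big; tauto
  · right; unfold Big; tauto
  · right; unfold Big; tauto
  · right; unfold Big; tauto

end

end Cfsg.Agent.H712.GmnSpor
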