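import Mathlib
import Cfsg.Agent.J3.Simple
import Cfsg.Agent.H712.GmnSpor

/-!
# The row `p = 3` of the Janko group `J₃` (helper712)

The monomial subgroup `U` of order `3⁶` of `3·J₃` is a Sylow subgroup, the diagonal elements `A_Z` are central in it
modulo scalars, and `B_{-1}` inverts them.
-/

set_option autoImplicit false

open Subgroup

namespace Cfsg.Agent.H712.GmnJThree

open Cfsg Cfsg.Spor Cfsg.Agent.J3.Core Cfsg.Agent.J3.Tab Cfsg.Agent.J3.Mono Cfsg.Agent.J3.Elts Cfsg.Agent.J3.Nineteen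
open Cfsg.Agent.H711.Crit Cfsg.Agent.H712.Gmn
open Matrix

section

variable {F : Type*} [Field F] {ω : F}

theorem pow_mod_three (H : Good ω) (k : ℕ) : ω ^ (k % 3) = ω ^ k := by
  conv_rhs => rw [← Nat.div_add_mod k 3, pow_add, pow_mul, H.cube, one_pow, one_mul]

theorem omegaPow_add (H : Good ω) (a b : ZMod 3) : omegaPow F ω (a + b) = omegaPow F ω a * omegaPow F ω b := by
  unfold omegaPow
  rw [ZMod.val_add, pow_mod_three H, pow_add]

/-- `M e_z = ω^(f z) e_{z + W}` -/
def Mo (ω : F) (M : Matrix F9 F9 F) (W : F9) (f : F9 → ZMod 3) : Prop :=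
  ∀ w z, M w z = if w = z + W then omegaPow F ω (f z) else 0

theorem Mo.mul (H : Good ω) {M N : Matrix F9 F9 F} {W V : F9} {f g : F9 → ZMod 3} (hM : Mo ω M W f) (hN : Mo ω N V g) :
    Mo ω (M * N) (V + W) (fun z => f (z + V) + g z) := by
  intro w z
  rw [Matrix.mul_apply, Finset.sum_eq_single (z + V)]
  · rw [hM, hN, if_pos rfl, ← add_assoc]
    by_cases h : w = z + V + W
    · rw [if_pos h, if_pos h, omegaPow_add H]
    · rw [if_neg h, if_neg h, zero_mul]
  · intro y _ hy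
    rw [hN, if_neg hy, mul_zero]
  · intro h
    exact absurd (Finset.mem_univ _) h

theorem Mo.eq {M N : Matrix F9 F9 F} {W : F9} {f : F9 → ZMod 3} (hM : Mo ω M W f) (hN : Mo ω N W f) : M = N := by
  ext w z
  rw [hM, hN]

theorem mo_one : Mo ω (1 : Matrix F9 F9 F) 0 (fun _ => 0) := by
  intro w z
  rw [Matrix.one_apply, add_zero]
  simp [omegaPow]

theorem mo_scalar : Mo ω (ω • (1 : Matrix F9 F9 F)) 0 (fun _ => 1) := by
  intro w z
  rw [Matrix.smul_apply, Matrix.one_apply, add_zero]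
  by_cases h : w = z
  · rw [if_pos h, if_pos h]
    simp [omegaPow, ZMod.val_one]
  · rw [if_neg h, if_neg h, smul_zero]

theorem mo_a (Z : F9) : Mo ω (j3A F ω Z) 0 (fun z => Z.1 * z.1 + Z.2 * z.2) := by
  intro w z
  rw [j3A, Matrix.diagonal_apply, add_zero]
  by_cases h : w = z
  · rw [if_pos h, if_pos h, h]
  · rw [if_neg h, if_neg h]

theorem mo_e : Mo ω (j3E F ω 0) 0 (fun z => z.1 ^ 2 + z.2 ^ 2) := by
  intro w z
  rw [j3E, Matrix.diagonal_apply, add_zero]
  by_cases h : w = z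
  · subst h
    rw [if_pos rfl, if_pos rfl]
    congr 1
    simp
  · rw [if_neg h, if_neg h]

/-- the exponents of `D_Z` -/
def lam (Z z : F9) : ZMod 3 :=
  if z = 0 then 0
  else if F9.div Z z = F9.I - F9.one then 1
  else if F9.div Z z = -F9.I - F9.one then 2
  else 0

theorem mo_d (Z : F9) : Mo ω (j3D F ω Z) Z (lam Z) := by
  intro w z
  show (if w = z + Z then j3Lam F ω Z z else 0) = _
  congr 1
  unfold j3Lam lam omegaPow
  have h0 : (ZMod.val (0 : ZMod 3)) = 0 := rfl
  have h1 : (ZMod.val (1 : ZMod 3)) = 1 := rfl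
  have h2 : (ZMod.val (2 : ZMod 3)) = 2 := rfl
  split_ifs
  · rw [h0, pow_zero]
  · rw [h1, pow_one]
  · rw [h2]
  · rw [h0, pow_zero]

/-- the monomial subgroup -/
def U (H : Good ω) : Subgroup (threeJ3 F ω) where
  carrier := {g | ∃ W f, Mo ω (mat ω g) W f}
  one_mem' := ⟨0, fun _ => 0, by rw [map_one]; exact mo_one⟩
  mul_mem' := by
    rintro g h ⟨W, f, hg⟩ ⟨V, f', hh⟩
    exact ⟨_, _, by rw [map_mul]; exact hg.mul H hh⟩
  inv_mem' := by
    rintro g ⟨W, f, hg⟩
    refine ⟨-W, fun z => - f (z - W), ?_⟩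
    set N : Matrix F9 F9 F := Matrix.of fun w z => if w = z + -W then omegaPow F ω (- f (z - W)) else 0 with hN
    have hNM : Mo ω N (-W) (fun z => - f (z - W)) := fun w z => rfl
    have h1 := hNM.mul H hg
    have h2 : Mo ω (N * mat ω g) 0 (fun _ => 0) := by
      intro w z
      rw [h1 w z]
      simp
    have h3 : N * mat ω g = 1 := h2.eq mo_one
    have h4 : mat ω g⁻¹ = N := by
      have h5 : N * mat ω g * mat ω g⁻¹ = mat ω g⁻¹ := by rw [h3, one_mul]
      rw [mul_assoc, ← map_mul, mul_inv_cancel, map_one, mul_one] at h5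
      exact h5.symm
    rw [h4]
    exact hNM

theorem mem_U (H : Good ω) {g : threeJ3 F ω} : g ∈ U H ↔ ∃ W f, Mo ω (mat ω g) W f := Iff.rfl

theorem isPGroup_U (H : Good ω) : IsPGroup 3 (U H) := by
  rintro ⟨g, W, f, hg⟩
  refine ⟨2, Subtype.ext ?_⟩
  show g ^ 9 = 1
  have h2 := (hg.mul H hg)
  have h3 := h2.mul H hg
  have e3 : mat ω (g ^ 3) = mat ω g * mat ω g * mat ω g := by rw [pow_succ, pow_two, map_mul, map_mul]
  rw [← e3] at h3
  have hW : W + (W + W) = 0 := by
    have : ∀ W : F9, W + (W + W) = 0 := by decide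
    exact this W
  rw [hW] at h3
  have h6 := (h3.mul H h3).mul H h3
  have e9 : mat ω (g ^ 9) = mat ω (g ^ 3) * mat ω (g ^ 3) * mat ω (g ^ 3) := by
    rw [← map_mul, ← map_mul, ← pow_add, ← pow_add]
  rw [← e9] at h6
  apply mat_injective
  rw [map_one]
  refine Mo.eq (ω := ω) (W := 0) (f := fun _ => 0) ?_ mo_one
  intro w z
  rw [h6 w z]
  have hx : ∀ x : ZMod 3, x + x + x = 0 := by decide
  simp only [add_zero]
  rw [hx]

/-- the elements -/
def el (G : Gens F ω) (s : threeJ3 F ω) (x : ZMod 3 × ZMod 3 × F9 × F9) : threeJ3 F ω :=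
  s ^ x.1.val * (G.e ^ x.2.1.val * (G.a x.2.2.1 * G.d x.2.2.2))

theorem mo_pow_zero (H : Good ω) {g : threeJ3 F ω} {f : F9 → ZMod 3} (hg : Mo ω (mat ω g) 0 f) (n : ℕ) :
    Mo ω (mat ω (g ^ n)) 0 (fun z => n * f z) := by
  induction n with
  | zero =>
    rw [pow_zero, map_one]
    simpa using (mo_one (F := F) (ω := ω))
  | succ n ih =>
    rw [pow_succ, map_mul]
    have := ih.mul H hg
    intro w z
    rw [this w z]
    simp only [add_zero, Nat.cast_add, Nat.cast_one]
    congr 2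
    ring

theorem mo_el (H : Good ω) (G : Gens F ω) {s : threeJ3 F ω} (hs : mat ω s = ω • 1) (x : ZMod 3 × ZMod 3 × F9 × F9) :
    Mo ω (mat ω (el G s x)) x.2.2.2 (fun z => x.1 + (x.2.1 * ((z + x.2.2.2).1 ^ 2 + (z + x.2.2.2).2 ^ 2) +
      (x.2.2.1.1 * (z + x.2.2.2).1 + x.2.2.1.2 * (z + x.2.2.2).2 + lam x.2.2.2 z))) := by
  obtain ⟨i, k, Z, W⟩ := x
  have h1 := mo_pow_zero H (g := s) (by rw [hs]; exact mo_scalar) i.val
  have h2 := mo_pow_zero H (g := G.e) (by rw [G.he]; exact mo_e) k.val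
  have h3 : Mo ω (mat ω (G.a Z)) 0 (fun z => Z.1 * z.1 + Z.2 * z.2) := by rw [G.ha]; exact mo_a Z
  have h4 : Mo ω (mat ω (G.d W)) W (lam W) := by rw [G.hd]; exact mo_d W
  have h5 := h1.mul H (h2.mul H (h3.mul H h4))
  rw [← map_mul, ← map_mul, ← map_mul] at h5
  intro w z
  rw [show el G s (i, k, Z, W) = s ^ i.val * (G.e ^ k.val * (G.a Z * G.d W)) from rfl, h5 w z]
  simp only [add_zero, ZMod.natCast_val, ZMod.cast_id', id_eq, mul_one]

theorem el_mem (H : Good ω) (G : Gens F ω) {s : threeJ3 F ω} (hs : mat ω s = ω • 1) (x : ZMod 3 × ZMod 3 × F9 × F9) :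
    el G s x ∈ U H := ⟨_, _, mo_el H G hs x⟩

theorem omegaPow_ne_zero (H : Good ω) (n : ZMod 3) : omegaPow F ω n ≠ 0 := pow_ne_zero _ H.ne_zero

theorem Mo.unique (H : Good ω) {M : Matrix F9 F9 F} {W V : F9} {f g : F9 → ZMod 3} (hM : Mo ω M W f) (hN : Mo ω M V g) :
    W = V ∧ f = g := by
  have h1 : W = V := by
    have h2 := hM (0 + W) 0
    rw [if_pos rfl, hN (0 + W) 0] at h2
    by_contra hne
    rw [if_neg (fun h => hne (add_left_cancel h))] at h2
    exact omegaPow_ne_zero H _ h2.symm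
  refine ⟨h1, funext fun z => ?_⟩
  have h2 := hM (z + W) z
  have h3 := hN (z + W) z
  rw [if_pos rfl] at h2
  rw [← h1, if_pos rfl] at h3
  exact omegaPow_inj H (h2.symm.trans h3)

theorem table_inj : ∀ i k i' k' : ZMod 3, ∀ Z Z' : F9, (∀ z : F9, i + (k * (z.1 ^ 2 + z.2 ^ 2) + (Z.1 * z.1 + Z.2 * z.2)) =
    i' + (k' * (z.1 ^ 2 + z.2 ^ 2) + (Z'.1 * z.1 + Z'.2 * z.2))) → i = i' ∧ k = k' ∧ Z = Z' := by
  decide +kernel

theorem el_injective (H : Good ω) (G : Gens F ω) {s : threeJ3 F ω} (hs : mat ω s = ω • 1) :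
    Function.Injective (el G s) := by
  rintro ⟨i, k, Z, W⟩ ⟨i', k', Z', W'⟩ h
  have h1 := mo_el H G hs (i, k, Z, W)
  have h2 := mo_el H G hs (i', k', Z', W')
  rw [← h] at h2
  obtain ⟨h3, h4⟩ := h1.unique H h2
  obtain rfl : W = W' := h3
  have h5 := table_inj i k i' k' Z Z' fun z => by
    have h6 := congrFun h4 (z - W)
    simp only [sub_add_cancel] at h6
    have e : ∀ a b c d l : ZMod 3, a + (b + (c + l)) = d → a + (b + c) = d - l := by
      intro a b c d l h
      rw [← h]; ring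
    have h7 := e _ _ _ _ _ h6
    rw [h7]
    ring
  obtain ⟨rfl, rfl, rfl⟩ := h5
  rfl

theorem card_U [Fintype F] (hF : Fintype.card F = 4) (H : Good ω) : Nat.card (U H) = 3 ^ 6 := by
  have hfin : Finite (threeJ3 F ω) := inferInstance
  obtain ⟨G⟩ := exists_gens hF H
  obtain ⟨s, hs⟩ := exists_scalar H G
  obtain ⟨k, hk⟩ := (isPGroup_U H).exists_card_eq
  have h1 : Nat.card (ZMod 3 × ZMod 3 × F9 × F9) ≤ Nat.card (U H) := by
    refine Nat.card_le_card_of_injective (fun x => (⟨el G s x, el_mem H G hs x⟩ : U H)) fun x y hxy => ?_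
    exact el_injective H G hs (congrArg Subtype.val hxy)
  have h2 : Nat.card (ZMod 3 × ZMod 3 × F9 × F9) = 729 := by
    simp
  have h3 : 3 ^ k ∣ 150698880 := by
    rw [← hk, ← Cfsg.Agent.J3.Order.card_threeJ3 hF H]
    exact card_subgroup_dvd_card _
  rw [h2, hk] at h1
  have h4 : 6 ≤ k := by
    by_contra hlt
    push Not at hlt
    have : 3 ^ k ≤ 3 ^ 5 := Nat.pow_le_pow_right (by norm_num) (by omega)
    norm_num at this
    omega
  have h5 : k ≤ 6 := by
    by_contra hlt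
    push Not at hlt
    have : 3 ^ 7 ∣ 150698880 := (pow_dvd_pow 3 (by omega)).trans h3
    norm_num at this
  rw [hk]
  congr 1
  omega

/-! ### `B_{-1}` -/

/-- `-1` -/
def m1 : F9 := (2, 0)

theorem m1_ne : m1 ≠ 0 := by decide

theorem mul_m1 : ∀ z : F9, F9.mul m1 z = -z := by decide

theorem b_apply (w z : F9) : j3B F m1 w z = if w = -z then 1 else 0 := by
  rw [j3B, Matrix.of_apply, mul_m1]

theorem b_sq : j3B F m1 * j3B F m1 = (1 : Matrix F9 F9 F) := by
  ext w z
  rw [Matrix.mul_apply, Finset.sum_eq_single (-z)]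
  · rw [b_apply, b_apply, if_pos rfl, mul_one, neg_neg, Matrix.one_apply]
  · intro y _ hy
    rw [b_apply y, if_neg hy, mul_zero]
  · intro h
    exact absurd (Finset.mem_univ _) h

theorem mo_b {M : Matrix F9 F9 F} {W : F9} {f : F9 → ZMod 3} (hM : Mo ω M W f) :
    Mo ω (j3B F m1 * M * j3B F m1) (-W) (fun z => f (-z)) := by
  intro w z
  rw [Matrix.mul_apply, Finset.sum_eq_single (-z)]
  · rw [b_apply (-z), if_pos rfl, mul_one, Matrix.mul_apply, Finset.sum_eq_single (-w)]
    · rw [b_apply, neg_neg, if_pos rfl, one_mul, hM]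
      congr 1
      rw [neg_eq_iff_eq_neg, neg_add, neg_neg]
    · intro y _ hy
      rw [b_apply, if_neg (fun h => hy (by rw [h, neg_neg])), zero_mul]
    · intro h
      exact absurd (Finset.mem_univ _) h
  · intro y _ hy
    rw [b_apply y, if_neg hy, mul_zero]
  · intro h
    exact absurd (Finset.mem_univ _) h

theorem nn_j3 [Fintype F] (hF : Fintype.card F = 4) (H : Good ω) : NN 3 (J3 F ω) := by
  have hp3 : Fact (Nat.Prime 3) := ⟨Nat.prime_three⟩
  have hfin : Finite (threeJ3 F ω) := inferInstance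
  have hfin' : Finite (J3 F ω) := inferInstance
  obtain ⟨G⟩ := exists_gens hF H
  obtain ⟨s, hs⟩ := exists_scalar H G
  set π : threeJ3 F ω →* J3 F ω := QuotientGroup.mk' (center (threeJ3 F ω)) with hπ
  have hker : π.ker = center (threeJ3 F ω) := QuotientGroup.ker_mk' _
  have hπs : π s = 1 := by
    rw [← MonoidHom.mem_ker, hker, center_eq hF H hs]
    exact mem_zpowers s
  -- the order of the image of `U`
  have hQ : 3 ^ 5 ∣ Nat.card ((U H).map π) := by
    have h1 := (π.subgroupMap (U H)).ker.card_mul_index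
    rw [index_ker, MonoidHom.range_eq_top.2 (π.subgroupMap_surjective (U H)), card_top, card_U hF H] at h1
    have h2 : Nat.card (π.subgroupMap (U H)).ker ∣ Nat.card (center (threeJ3 F ω)) := by
      have h3 : (π.subgroupMap (U H)).ker.map (U H).subtype ≤ center (threeJ3 F ω) := by
        rintro _ ⟨x, hx, rfl⟩
        exact hker.le (congrArg Subtype.val (MonoidHom.mem_ker.1 hx))
      have h4 := card_dvd_of_le h3
      rwa [card_map_of_injective (subtype_injective _)] at h4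
    obtain ⟨c, hc⟩ := h2
    have h5 : 3 ^ 6 ∣ Nat.card (center (threeJ3 F ω)) * Nat.card ((U H).map π) := by
      rw [← h1, hc]
      exact ⟨c, by ring⟩
    rw [card_center hF H] at h5
    exact Nat.dvd_of_mul_dvd_mul_left (k := 3) (by norm_num) (by rwa [show 3 * 3 ^ 5 = 3 ^ 6 from by norm_num])
  have ha : Mo ω (mat ω (G.a (1, 0))) 0 (fun z => z.1) := by
    have := mo_a (ω := ω) (1, 0)
    rw [← G.ha] at this
    simpa using this
  have hsm : Mo ω (mat ω s) 0 (fun _ => 1) := by rw [hs]; exact mo_scalar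
  have hz3 : π (G.a (1, 0)) ^ 3 = 1 := by
    rw [← map_pow, ← map_one π]
    congr 1
    apply mat_injective
    rw [map_one]
    refine Mo.eq (ω := ω) (W := 0) (f := fun _ => 0) ?_ mo_one
    intro w z
    rw [mo_pow_zero H ha 3 w z]
    have : ((3 : ℕ) : ZMod 3) * z.1 = 0 := by
      rw [show ((3 : ℕ) : ZMod 3) = 0 from rfl, zero_mul]
    simp only [this]
  have hz1 : π (G.a (1, 0)) ≠ 1 := by
    intro h
    rw [← MonoidHom.mem_ker, hker, center_eq hF H hs, ← mem_powers_iff_mem_zpowers] at h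
    obtain ⟨n, hn⟩ := h
    have h1 := mo_pow_zero H hsm n
    rw [show s ^ n = G.a (1, 0) from hn] at h1
    have h2 := (ha.unique H h1).2
    have h3 := congrFun h2 (0, 0)
    have h4 := congrFun h2 (1, 0)
    simp only [mul_one] at h3 h4
    rw [← h3] at h4
    exact one_ne_zero h4
  have ho : orderOf (π (G.a (1, 0))) = 3 := orderOf_eq_prime hz3 hz1
  -- reality
  have hb := G.hb m1 m1_ne
  have hbb : G.b m1 * G.b m1 = 1 := by
    apply mat_injective
    rw [map_mul, hb, b_sq, map_one]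
  have hba : G.b m1 * G.a (1, 0) * G.b m1 * G.a (1, 0) = 1 := by
    apply mat_injective
    rw [map_mul, map_mul, map_mul, hb, map_one]
    refine Mo.eq (ω := ω) (W := 0) (f := fun _ => 0) ?_ mo_one
    intro w z
    rw [((mo_b ha).mul H ha) w z]
    simp
  have hreal : IsConj (π (G.a (1, 0))) (π (G.a (1, 0)))⁻¹ := by
    refine isConj_iff.2 ⟨π (G.b m1), ?_⟩
    rw [← map_inv, ← map_inv, ← map_mul, ← map_mul]
    congr 1
    rw [inv_eq_of_mul_eq_one_right hbb]
    exact eq_inv_of_mul_eq_one_left hba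
  refine NN.of_real_card (n := 5) (m := 206720) (by norm_num) ho hreal
    (by rw [Cfsg.Agent.J3.Simple.card_J3 hF H]; norm_num) (by norm_num) (hQ.trans (card_dvd_of_le ?_))
  rintro _ ⟨g, ⟨W, f, hg⟩, rfl⟩
  rw [mem_centralizer_singleton_iff]
  have h1 : g * G.a (1, 0) = s ^ (-W.1).val * (G.a (1, 0) * g) := by
    apply mat_injective
    rw [map_mul, map_mul, map_mul]
    refine Mo.eq (ω := ω) (W := 0 + W) (f := fun z => f (z + 0) + z.1) (hg.mul H ha) ?_
    intro w z
    rw [((mo_pow_zero H hsm (-W.1).val).mul H (ha.mul H hg)) w z]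
    simp only [zero_add, add_zero, mul_one, ZMod.natCast_val, ZMod.cast_id', id_eq, Prod.fst_add]
    congr 2
    ring
  rw [← map_mul, ← map_mul, h1, map_mul, map_pow, hπs, one_pow, one_mul]

end

universe u

theorem j3 {K : Type u} [Group K] [IsSimpleGroup K] (h : Spor.IsoJ3 K) : RowS 3 K := by
  have : Fact (Nat.Prime 3) := ⟨Nat.prime_three⟩
  obtain ⟨F, _, _, ω, hF, hω, ⟨e⟩⟩ := id h
  have H := good_of_card hF hω
  have hs : IsSimpleGroup (J3 F ω) := Cfsg.Agent.J3.Simple.simple_J3 hF H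
  have hfin' : Finite (J3 F ω) := inferInstance
  refine (rowS_of_NN (H711.RowCount.center_eq_bot (by rw [Cfsg.Agent.J3.Simple.card_J3 hF H]; norm_num)) ?_
    (nn_j3 hF H)).congr e.symm
  intro h0
  have h1 : 3 ∣ Nat.card (Out (J3 F ω)) := h0
  rw [S2067.result hF ω hω] at h1
  norm_num at h1

end Cfsg.Agent.H712.GmnJThree
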