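import Mathlib
import Cfsg.Agent.H142.GmnPC
import Cfsg.Agent.H712.GmnStrong
import Cfsg.Agent.H709.GmnCrit

/-!
# Groups with a self-normalizing Sylow subgroup: reduction to simple groups (helper712)

* `rowS_iff` : `RowS p S` is helper142's `GmnPC.Row p S` (trivial centre), `rowS_of_good`: from helper709's
  `GmnCrit.Good`, `rowS_of_cover`: the form with `Q.map conj ≤ A`;
* `exists_normalizer` : (after helper142's `GmnPC.row_false`) `O_{p'}(G) = 1`, `K` a component, `A = indA P K`; a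
  `p'`-element `h` of `K/Z(K)` normalising `A` is, up to an `A`-conjugation, induced by an element of `N_G(P)`;
* `eq_one_of_self` : `N_G(P) = P`: no `p'`-element `h ≠ 1` of `K/Z(K)` normalises `A`.
-/

set_option autoImplicit false
set_option linter.unusedSectionVars false

open Cfsg Subgroup
open scoped Pointwise commutatorElement

namespace Cfsg.Agent.H712.Gmn

open Cfsg.Agent.H142.GmnPC

section Bridge

variable {p : ℕ} {S : Type*} [Group S] [Finite S] [Fact p.Prime]

theorem rowS_of_row' (hZ : center S = ⊥) (h : H142.GmnPC.Row p S) : RowS p S := by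
  refine RowS.of_moves hZ fun A hA ⟨Q, hQ⟩ => ?_
  obtain ⟨x, hx, hn, hc⟩ := h A hA ⟨Q, by
    rintro _ ⟨y, hy, rfl⟩
    exact hQ y hy⟩
  refine ⟨x, hx, fun a ha => (Subgroup.mem_normalizer_iff.1 hn a).1 ha, ?_⟩
  by_contra h0
  push Not at h0
  refine hc (mem_centralizer_iff.2 fun a ha => ?_)
  have h1 := h0 a ha
  calc a * MulAut.conj x = MulAut.conj x * a * (MulAut.conj x)⁻¹ * MulAut.conj x := by rw [h1]
    _ = MulAut.conj x * a := by group

theorem RowS.row' (hZ : center S = ⊥) (h : RowS p S) : H142.GmnPC.Row p S := by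
  have := finite_mulAut (S := S)
  rintro A hA ⟨Q, hQ⟩
  obtain ⟨x, hx, hn, t, ht, hxt⟩ := h A hA Q (fun y hy => hQ ⟨y, hy, rfl⟩)
  refine ⟨x, hx, mem_normalizer_of_forall hn, fun hc => hxt ?_⟩
  have h1 := mem_centralizer_iff.1 hc (MulAut.conj t) (hQ ⟨t, ht, rfl⟩)
  rw [← map_mul, ← map_mul] at h1
  have h2 := Gmn.conj_injective hZ h1
  rw [← h2]
  group

theorem rowS_iff (hZ : center S = ⊥) : RowS p S ↔ H142.GmnPC.Row p S :=
  ⟨RowS.row' hZ, rowS_of_row' hZ⟩

/-- from helper709's form -/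
theorem rowS_of_good (hZ : center S = ⊥) (h : ∀ (A : Subgroup (MulAut S)), IsPGroup p A → ∀ Q : Sylow p S,
    (Q : Subgroup S).map MulAut.conj ≤ A → H709.GmnCrit.Good p A) : RowS p S := by
  refine RowS.of_moves hZ fun A hA ⟨Q, hQ⟩ => ?_
  obtain ⟨x, hx, hn, a, ha, hc⟩ := h A hA Q (by
    rintro _ ⟨y, hy, rfl⟩
    exact hQ y hy)
  refine ⟨x, hx, fun b hb => (Subgroup.mem_normalizer_iff.1 hn b).1 hb, a, ha, fun h0 => hc ?_⟩
  calc a * MulAut.conj x = MulAut.conj x * a * (MulAut.conj x)⁻¹ * MulAut.conj x := by rw [h0]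
    _ = MulAut.conj x * a := by group

/-- from helper507's form -/
theorem rowS_of_cover (h : ∀ (A : Subgroup (MulAut S)), IsPGroup p A → ∀ Q : Sylow p S,
    (Q : Subgroup S).map MulAut.conj ≤ A → ∃ h : S, ¬ p ∣ orderOf h ∧
      (∀ a ∈ A, MulAut.conj h * a * (MulAut.conj h)⁻¹ ∈ A) ∧ ∃ t ∈ (Q : Subgroup S), h * t * h⁻¹ ≠ t) : RowS p S := by
  intro A hA Q hQ
  exact h A hA Q (by
    rintro _ ⟨y, hy, rfl⟩
    exact hQ y hy)

end Bridge

section comp

variable {G : Type*} [Group G] [Finite G] {p : ℕ} [Fact p.Prime] (P : Sylow p G)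
  (hO : pPrimeCore p G = ⊥) {K : Subgroup G} (hK : IsComponent K)

include hO hK in
/-- an element normalising the automorphism group induced by `N_P(K)` comes from `N_G(P)` -/
theorem exists_normalizer {h : K ⧸ center K}
    (hhN : MulAut.conj h ∈ normalizer (indA P K : Set (MulAut (K ⧸ center K)))) :
    ∃ w ∈ normalizer ((P : Subgroup G) : Set G), ∃ hw : w ∈ normalizer (K : Set G), ∃ α ∈ indA P K,
      act K ⟨w, hw⟩ = α * MulAut.conj h * α⁻¹ := by
  classical
  obtain ⟨g, hg⟩ := QuotientGroup.mk_surjective h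
  rw [← hg] at hhN
  have hcj : ∀ (x : G) (L : Subgroup G), MulAut.conj x • L = L.map (MulAut.conj x).toMonoidHom :=
    fun x L => rfl
  -- the `P`-orbit of `K`
  set I : Finset (Subgroup G) := (Set.toFinite {L : Subgroup G | ∃ x ∈ P, MulAut.conj x • K = L}).toFinset
    with hIdef
  have hmem : ∀ L, L ∈ I ↔ ∃ x ∈ P, MulAut.conj x • K = L := by
    intro L
    simp [hIdef]
  have hcomp : ∀ L ∈ I, IsComponent L := by
    intro L hL
    obtain ⟨x, -, rfl⟩ := (hmem L).mp hL
    exact Cfsg.Agent.SignalizersComponents.Components.isComponent_conj x hK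
  have hI : ∀ L ∈ I, ∀ L' : Subgroup G, IsComponent L' → L ≠ L' → L ≤ centralizer (L' : Set G) :=
    fun L hL L' hL' hne =>
      Cfsg.Agent.SignalizersComponents.Components.component_le_centralizer_of_ne (hcomp L hL) hL' hne
  have hconjI : ∀ x ∈ P, ∀ L ∈ I, MulAut.conj x • L ∈ I := by
    intro x hx L hL
    obtain ⟨y, hy, rfl⟩ := (hmem L).mp hL
    rw [hmem]
    exact ⟨x * y, P.mul_mem hx hy, by rw [map_mul, mul_smul]⟩
  choose! xs hxsP hxsL using fun L (hL : L ∈ I) => (hmem L).mp hL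
  set f : Subgroup G → G := fun L => xs L * g * (xs L)⁻¹ with hf
  have hfL : ∀ L ∈ I, f L ∈ L := by
    intro L hL
    have h1 : f L ∈ MulAut.conj (xs L) • K := ⟨(g : G), g.2, rfl⟩
    rwa [hxsL L hL] at h1
  obtain ⟨w, -, hwI, hw⟩ := exists_prod I (fun L hL L' hL' => hI L hL L' (hcomp L' hL')) f hfL ⊤
    (fun L _ => mem_top _)
  have hsupC : ∀ L : Subgroup G, IsComponent L → L ∉ I → (⨆ L' ∈ I, L') ≤ centralizer (L : Set G) := by
    intro L hL hLI
    refine iSup₂_le fun L' hL' => hI L' hL' L hL ?_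
    rintro rfl
    exact hLI hL'
  have hsupE : (⨆ L' ∈ I, L') ≤ layer G := iSup₂_le fun L' hL' =>
    Cfsg.Agent.SignalizersComponents.Components.component_le_layer (hcomp L' hL')
  have hconjC : ∀ (x : G) (L : Subgroup G) (c : G), c ∈ centralizer ((MulAut.conj x⁻¹ • L : Subgroup G) : Set G) →
      x * c * x⁻¹ ∈ centralizer (L : Set G) := by
    intro x L c hc
    rw [mem_centralizer_iff] at hc ⊢
    intro l hl
    have h1 := hc (x⁻¹ * l * x) ⟨l, hl, by simp⟩
    calc l * (x * c * x⁻¹) = x * ((x⁻¹ * l * x) * c) * x⁻¹ := by group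
      _ = x * (c * (x⁻¹ * l * x)) * x⁻¹ := by rw [h1]
      _ = x * c * x⁻¹ * l := by group
  -- `w` normalises `P`
  have hwP : ∀ x ∈ P, w⁻¹ * (x * w * x⁻¹) ∈ (P : Subgroup G) := by
    intro x hx
    set L' : Subgroup G → Subgroup G := fun L => MulAut.conj x⁻¹ • L with hL'
    have hL'I : ∀ L ∈ I, L' L ∈ I := fun L hL => hconjI x⁻¹ (P.inv_mem hx) L hL
    set q : Subgroup G → G := fun L => (f L)⁻¹ * (x * f (L' L) * x⁻¹) with hq
    have hqP : ∀ L ∈ I, q L ∈ (P : Subgroup G) ∧ q L ∈ L := by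
      intro L hL
      set a := xs L
      set b := xs (L' L)
      have ha : a ∈ P := hxsP L hL
      have hb : b ∈ P := hxsP _ (hL'I L hL)
      set y := a⁻¹ * (x * b) with hy
      have hyP : y ∈ P := P.mul_mem (P.inv_mem ha) (P.mul_mem hx hb)
      have hyK : MulAut.conj y • K = K := by
        rw [hy, map_mul, map_mul, mul_smul, mul_smul, hxsL _ (hL'I L hL), hL']
        simp only [map_inv, smul_inv_smul]
        rw [inv_smul_eq_iff, hxsL L hL]
      have hyN : y ∈ normalizer (K : Set G) :=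
        Cfsg.Agent.SignalizersComponents.PCompCore.mem_normalizer_of_map_conj_eq hyK
      have h1 : q L = a * ((g : G)⁻¹ * (y * g * y⁻¹)) * a⁻¹ := by
        change (a * (g : G) * a⁻¹)⁻¹ * (x * (b * (g : G) * b⁻¹) * x⁻¹) = _
        rw [hy]
        group
      constructor
      · rw [h1]
        exact P.mul_mem (P.mul_mem ha (key P hO hK hhN hyP hyN)) (P.inv_mem ha)
      · have h2 : q L ∈ MulAut.conj a • K := by
          refine ⟨(g : G)⁻¹ * (y * g * y⁻¹), mul_mem (inv_mem g.2) ((mem_normalizer_iff.mp hyN _).mp g.2), ?_⟩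
          rw [h1]
          rfl
        rwa [hxsL L hL] at h2
    obtain ⟨r, hrP, hrI, hr⟩ := exists_prod I (fun L hL L' hL' => hI L hL L' (hcomp L' hL')) q
      (fun L hL => (hqP L hL).2) P (fun L hL => (hqP L hL).1)
    -- `r⁻¹ v` centralises all components
    set v := w⁻¹ * (x * w * x⁻¹) with hv
    have hvE : r⁻¹ * v ∈ layer G := by
      have hn := Cfsg.Agent.SignalizersComponents.Components.layer_normal G
      exact mul_mem (inv_mem (hsupE hrI)) (mul_mem (inv_mem (hsupE hwI)) (hn.conj_mem _ (hsupE hwI) x))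
    have hvC : ∀ L : Subgroup G, IsComponent L → r⁻¹ * v ∈ centralizer (L : Set G) := by
      intro L hL
      by_cases hLI : L ∈ I
      · have h1 := hw L hLI
        have h2 := hconjC x L _ (hw (L' L) (hL'I L hLI))
        have h3 := hr L hLI
        have h4 : ((f L)⁻¹ * w)⁻¹ * q L = q L * ((f L)⁻¹ * w)⁻¹ :=
          (mem_centralizer_iff.mp (inv_mem h1) (q L) (hqP L hLI).2).symm
        have h5 : r⁻¹ * v = ((q L)⁻¹ * r)⁻¹ * (((f L)⁻¹ * w)⁻¹ * (x * ((f (L' L))⁻¹ * w) * x⁻¹)) := by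
          have h6 : v = (((f L)⁻¹ * w)⁻¹ * q L) * (x * ((f (L' L))⁻¹ * w) * x⁻¹) := by
            simp only [hv, hq]
            group
          rw [h6, h4]
          group
        rw [h5]
        exact mul_mem (inv_mem h3) (mul_mem (inv_mem h1) h2)
      · have h1 := hsupC L hL hLI
        have hL'n : L' L ∉ I := by
          intro h
          apply hLI
          have := hconjI x hx _ h
          simpa [hL', map_inv, smul_inv_smul] using this
        have hL'c : IsComponent (L' L) :=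
          Cfsg.Agent.SignalizersComponents.Components.isComponent_conj x⁻¹ hL
        exact mul_mem (inv_mem (h1 hrI)) (mul_mem (inv_mem (h1 hwI))
          (hconjC x L w (hsupC _ hL'c hL'n hwI)))
    have := mem_sylow_of_layer P hO hvE hvC
    have h7 : v = r * (r⁻¹ * v) := by group
    rw [h7]
    exact P.mul_mem hrP this
  have hwN : w ∈ normalizer ((P : Subgroup G) : Set G) := by
    have h1 : w⁻¹ ∈ normalizer ((P : Subgroup G) : Set G) := by
      apply mem_normalizer_fintype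
      intro x hx
      have h2 := P.mul_mem (hwP x hx) hx
      have h3 : w⁻¹ * (x * w * x⁻¹) * x = w⁻¹ * x * w⁻¹⁻¹ := by group
      rwa [h3] at h2
    simpa using inv_mem h1
  -- restrict to `K`
  have hKI : K ∈ I := (hmem K).mpr ⟨1, P.one_mem, by simp⟩
  have hc0 := hw K hKI
  have hfN : f K ∈ normalizer (K : Set G) := le_normalizer (hfL K hKI)
  have hc0N : (f K)⁻¹ * w ∈ normalizer (K : Set G) := centralizer_le_normalizer _ hc0
  have hwNK : w ∈ normalizer (K : Set G) := by
    have := mul_mem hfN hc0N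
    rwa [mul_inv_cancel_left] at this
  set hKq : K ⧸ center K := ((⟨f K, hfL K hKI⟩ : K) : K ⧸ center K) with hhK
  have e1 : act K ⟨w, hwNK⟩ = MulAut.conj hKq := by
    have h1 : (⟨w, hwNK⟩ : normalizer (K : Set G)) = ⟨f K, hfN⟩ * ⟨(f K)⁻¹ * w, hc0N⟩ := by
      apply Subtype.ext
      simp
    have h2 : act K ⟨(f K)⁻¹ * w, hc0N⟩ = 1 := by
      ext z
      obtain ⟨z, rfl⟩ := QuotientGroup.mk_surjective z
      rw [act_mk]
      have h3 : (⟨((f K)⁻¹ * w) * z * ((f K)⁻¹ * w)⁻¹, (mem_normalizer_iff.mp hc0N z).mp z.2⟩ : K) = z := by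
        apply Subtype.ext
        show ((f K)⁻¹ * w) * z * ((f K)⁻¹ * w)⁻¹ = z
        rw [← mem_centralizer_iff.mp hc0 z z.2, mul_inv_cancel_right]
      rw [h3]
      rfl
    rw [h1, map_mul, h2, mul_one, act_of_mem K ⟨f K, hfN⟩ (hfL K hKI)]
  have hxN : xs K ∈ normalizer (K : Set G) :=
    Cfsg.Agent.SignalizersComponents.PCompCore.mem_normalizer_of_map_conj_eq (hxsL K hKI)
  set α := act K ⟨xs K, hxN⟩ with hα
  have hαA : α ∈ indA P K := act_mem_indA P (hxsP K hKI) hxN
  have e3 : MulAut.conj hKq = α * MulAut.conj (g : K ⧸ center K) * α⁻¹ := by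
    have h1 : hKq = α (g : K ⧸ center K) := rfl
    rw [h1]
    ext z
    simp only [MulAut.conj_apply, MulAut.mul_apply, map_mul, map_inv, MulAut.apply_inv_self]
  refine ⟨w, hwN, hwNK, α, hαA, ?_⟩
  rw [e1, e3, hg]

include hO hK in
/-- `N_G(P) = P`: no `p'`-element normalises `indA P K` -/
theorem eq_one_of_self (hself : normalizer ((P : Subgroup G) : Set G) = P) {h : K ⧸ center K}
    (hhp : ¬ p ∣ orderOf h)
    (hhN : MulAut.conj h ∈ normalizer (indA P K : Set (MulAut (K ⧸ center K)))) : h = 1 := by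
  obtain ⟨w, hw, hwK, α, hα, e⟩ := exists_normalizer P hO hK hhN
  rw [hself] at hw
  have h1 := act_mem_indA P hw hwK
  rw [e] at h1
  have h2 : MulAut.conj h ∈ indA P K := by
    have h3 : MulAut.conj h = α⁻¹ * (α * MulAut.conj h * α⁻¹) * α := by group
    rw [h3]
    exact mul_mem (mul_mem (inv_mem hα) h1) hα
  obtain ⟨k, hk⟩ := isPGroup_indA P (K := K) ⟨_, h2⟩
  have h3 : (MulAut.conj h) ^ p ^ k = 1 := congrArg Subtype.val hk
  rw [← map_pow] at h3
  have h4 : h ^ p ^ k = 1 := (H142.GmnPC.conj_injective hK) (by rw [h3, map_one])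
  have h5 : orderOf h = 1 := Nat.eq_one_of_dvd_coprimes
    (Nat.Coprime.pow_left k ((Nat.Prime.coprime_iff_not_dvd Fact.out).2 hhp)) (orderOf_dvd_of_pow_eq_one h4) dvd_rfl
  exact orderOf_eq_one_iff.1 h5

end comp

end Cfsg.Agent.H712.Gmn
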