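import Mathlib
import Cfsg.Agent.H711.Crit
import Cfsg.Agent.H711.RowCount
import Cfsg.Agent.NotCT.Orders
import Cfsg.Agent.CpAutHN.Pairs
import Cfsg.Agent.TwoGenNine.AltNine
import Cfsg.Agent.S2082

/-!
# The row `p = 3` of the Harada-Norton group (helper712)

`nn_of_index` : a subgroup `H` with `p² ∤ |G : H|` all of whose elements of order `p` are real in `G` gives `NN p G`.
Applied to `A₁₂ ≤ HN` (`|HN|₃ = 3⁶`, `|A₁₂|₃ = 3⁵`).
-/

set_option autoImplicit false

open Subgroup

namespace Cfsg.Agent.H712.GmnHN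

open Cfsg Cfsg.Agent.H711.Crit Cfsg.Agent.H712.Gmn

section

variable {p : ℕ} [hp : Fact p.Prime] {G : Type*} [Group G] [Finite G]

theorem nn_of_index (hp2 : p ≠ 2) (H : Subgroup G) (hd : p ∣ Nat.card H) (hi : ¬ p ^ 2 ∣ H.index)
    (hreal : ∀ z ∈ H, orderOf z = p → IsConj z z⁻¹) : NN p G := by
  obtain ⟨P⟩ : Nonempty (Sylow p H) := inferInstance
  obtain ⟨w, hwP, hwo, hwc⟩ := exists_central P hd
  have hPp : IsPGroup p ((P : Subgroup H).map H.subtype) := P.isPGroup'.map _
  obtain ⟨Q, hQ⟩ := hPp.exists_le_sylow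
  have hPc : Nat.card ((P : Subgroup H).map H.subtype) = Nat.card (P : Subgroup H) :=
    card_map_of_injective (subtype_injective _)
  have hne : ∀ z : G, orderOf z = p → z ≠ 1 := by
    intro z hz h0
    rw [h0, orderOf_one] at hz
    exact hp.out.one_lt.ne hz
  -- the orders
  have hcard : Nat.card (Q : Subgroup G) ∣ p * Nat.card (P : Subgroup H) := by
    rw [Q.card_eq_multiplicity, P.card_eq_multiplicity, ← pow_succ']
    refine pow_dvd_pow p ?_
    rw [← H.card_mul_index, Nat.factorization_mul Nat.card_pos.ne' (index_ne_zero_of_finite), Finsupp.add_apply]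
    have : H.index.factorization p < 2 := by
      by_contra h0
      push Not at h0
      exact hi ((pow_dvd_pow p h0).trans (Nat.ordProj_dvd _ _))
    omega
  by_cases hA : ∀ c ∈ Q, (∀ y ∈ Q, y * c = c * y) → c ∈ (P : Subgroup H).map H.subtype
  · have hdG : p ∣ Nat.card G := hd.trans (card_subgroup_dvd_card H)
    obtain ⟨c, hcQ, hco, hcc⟩ := exists_central Q hdG
    obtain ⟨h, -, rfl⟩ := hA c hcQ hcc
    exact NN.of_real hp2 Q hcQ (hne _ hco) hcc (hreal _ h.2 hco)
  · push Not at hA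
    obtain ⟨c, hcQ, hcc, hcP⟩ := hA
    have hwo' : orderOf (w : G) = p := by rw [orderOf_coe]; exact hwo
    have hwQ : (w : G) ∈ Q := hQ (mem_map_of_mem H.subtype hwP)
    -- the centralizer of `w` in `Q`
    set K : Subgroup G := (Q : Subgroup G) ⊓ centralizer ({(w : G)} : Set G) with hK
    have hPK : (P : Subgroup H).map H.subtype ≤ K := by
      refine le_inf hQ ?_
      rintro _ ⟨x, hx, rfl⟩
      rw [mem_centralizer_singleton_iff]
      exact congrArg Subtype.val (hwc x hx)
    have hcK : c ∈ K := ⟨hcQ, mem_centralizer_singleton_iff.2 (hcc _ hwQ).symm⟩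
    have hlt : (P : Subgroup H).map H.subtype < K := lt_of_le_of_ne hPK fun h0 => hcP (h0 ▸ hcK)
    have hKQ : K = (Q : Subgroup G) := by
      refine eq_of_le_of_card_ge inf_le_left ?_
      have h1 : Nat.card (P : Subgroup H) ∣ Nat.card K := hPc ▸ card_dvd_of_le hPK
      obtain ⟨m, hm⟩ := h1
      obtain ⟨n, hn⟩ := (Q.isPGroup'.to_le (inf_le_left : K ≤ (Q : Subgroup G))).exists_card_eq
      have hm1 : m ≠ 1 := by
        rintro rfl
        apply hlt.ne
        refine eq_of_le_of_card_ge hPK ?_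
        rw [hm, hPc, mul_one]
      have hpm : p ∣ m := by
        have h2 : m ∣ p ^ n := ⟨Nat.card (P : Subgroup H), by rw [← hn, hm, mul_comm]⟩
        obtain ⟨k, -, hk⟩ := (Nat.dvd_prime_pow hp.out).1 h2
        rw [hk]
        refine dvd_pow_self p fun h0 => hm1 ?_
        rw [hk, h0, pow_zero]
      have h3 : p * Nat.card (P : Subgroup H) ∣ Nat.card K := by
        rw [hm, mul_comm]
        exact Nat.mul_dvd_mul_left _ hpm
      exact Nat.le_of_dvd Nat.card_pos (hcard.trans h3)
    refine NN.of_real hp2 Q hwQ (hne _ hwo') (fun x hx => ?_) (hreal _ w.2 hwo')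
    have hx' : x ∈ K := by rw [hKQ]; exact hx
    exact mem_centralizer_singleton_iff.1 hx'.2

end

/-! ### elements of order 3 of `A₁₂` -/

section

open Equiv Equiv.Perm

/-- representatives, and odd elements commuting with them -/
def rep : ℕ → Perm (Fin 12)
  | 0 => [0, 1, 2].formPerm
  | 1 => [0, 1, 2].formPerm * [3, 4, 5].formPerm
  | 2 => [0, 1, 2].formPerm * [3, 4, 5].formPerm * [6, 7, 8].formPerm
  | _ => [0, 1, 2].formPerm * [3, 4, 5].formPerm * [6, 7, 8].formPerm * [9, 10, 11].formPerm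

def odd : ℕ → Perm (Fin 12)
  | 0 => swap 3 4
  | 1 => swap 6 7
  | 2 => swap 9 10
  | _ => swap 0 3 * swap 1 4 * swap 2 5

theorem rep_type : ∀ n < 4, (rep n).cycleType = Multiset.replicate (n + 1) 3 := by decide +kernel

theorem rep_comm : ∀ n < 4, odd n * rep n = rep n * odd n := by decide +kernel

theorem odd_sign : ∀ n < 4, sign (odd n) = -1 := by decide +kernel

theorem real_alt {x : Perm (Fin 12)} (hx : orderOf x = 3) : ∃ g ∈ alternatingGroup (Fin 12), g * x * g⁻¹ = x⁻¹ := by
  obtain ⟨n, hn⟩ := cycleType_prime_order (σ := x) (by rw [hx]; exact Nat.prime_three)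
  rw [hx] at hn
  have h2 : x.cycleType.sum ≤ Fintype.card (Fin 12) := by
    rw [sum_cycleType]
    exact Finset.card_le_univ _
  rw [hn, Multiset.sum_replicate, Fintype.card_fin, smul_eq_mul] at h2
  have hn4 : n < 4 := by omega
  have h3 : IsConj (rep n) x := by rw [isConj_iff_cycleType_eq, hn, rep_type n hn4]
  obtain ⟨c, hc⟩ := isConj_iff.1 h3
  have h4 : IsConj x x⁻¹ := by rw [isConj_iff_cycleType_eq, cycleType_inv]
  refine Cfsg.Agent.TwoGenNine.AltNine.exists_conj_alt (s := c * odd n * c⁻¹) h4 ?_ ?_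
  · rw [← hc]
    calc c * odd n * c⁻¹ * (c * rep n * c⁻¹) = c * (odd n * rep n) * c⁻¹ := by group
      _ = c * (rep n * odd n) * c⁻¹ := by rw [rep_comm n hn4]
      _ = _ := by group
  · rw [map_mul, map_mul, odd_sign n hn4, map_inv]
    rcases Int.units_eq_one_or (sign c) with h | h <;> rw [h] <;> rfl

end

theorem nn_hn : NN 3 Spor.HN := by
  have hp3 : Fact (Nat.Prime 3) := ⟨Nat.prime_three⟩
  have hc : Nat.card Spor.HN = 273030912000000 := NotCT.Orders.hn ⟨MulEquiv.refl _⟩
  have hfin : Finite Spor.HN := Nat.finite_of_card_ne_zero (by rw [hc]; norm_num)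
  have hs : IsSimpleGroup Spor.HN := Cfsg.Agent.S1701.result.1
  have hcr : Nat.card (CpAutHN.Alt.Φ).range = 239500800 := by
    rw [← Nat.card_congr (MonoidHom.ofInjective CpAutHN.Alt.Φ_inj).toEquiv, nat_card_alternatingGroup,
      Nat.card_eq_fintype_card, Fintype.card_fin]
    decide
  refine nn_of_index (by norm_num) (CpAutHN.Alt.Φ).range (by rw [hcr]; norm_num) ?_ ?_
  · have h1 := (CpAutHN.Alt.Φ).range.card_mul_index
    rw [hcr, hc] at h1
    have h2 : (CpAutHN.Alt.Φ).range.index = 1140000 := by omega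
    rw [h2]
    norm_num
  · rintro _ ⟨x, rfl⟩ hz
    rw [orderOf_injective _ CpAutHN.Alt.Φ_inj] at hz
    obtain ⟨g, hg, h⟩ := real_alt (x := (x : Equiv.Perm (Fin 12))) (by rw [orderOf_coe]; exact hz)
    refine isConj_iff.2 ⟨CpAutHN.Alt.Φ ⟨g, hg⟩, ?_⟩
    rw [← map_mul, ← map_inv, ← map_mul, ← map_inv]
    exact congrArg _ (Subtype.ext h)

universe u

theorem hn {K : Type u} [Group K] [IsSimpleGroup K] (h : Spor.IsoHN K) : RowS 3 K := by
  have : Fact (Nat.Prime 3) := ⟨Nat.prime_three⟩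
  have hc : Nat.card Spor.HN = 273030912000000 := NotCT.Orders.hn ⟨MulEquiv.refl _⟩
  have hfin : Finite Spor.HN := Nat.finite_of_card_ne_zero (by rw [hc]; norm_num)
  have hs : IsSimpleGroup Spor.HN := Cfsg.Agent.S1701.result.1
  obtain ⟨e⟩ := h
  refine (rowS_of_NN (H711.RowCount.center_eq_bot (by rw [hc]; norm_num)) ?_ nn_hn).congr e.symm
  intro h0
  have h1 : 3 ∣ Nat.card (Out Spor.HN) := h0
  rw [S2082.result] at h1
  norm_num at h1

end Cfsg.Agent.H712.GmnHN
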