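import Mathlib
import Cfsg.Agent.H712.GmnSpor
import Cfsg.Agent.CpAut.SporThree.ON

/-!
# The row `p = 3` of the O'Nan group: abelian Sylow 3-subgroups (helper712)
-/

set_option autoImplicit false

open Subgroup

namespace Cfsg.Agent.H712.GmnON

open Cfsg Cfsg.Agent.H711.Crit Cfsg.Agent.H712.Gmn

theorem nn_on : NN 3 Spor.ON := by
  have : Fact (Nat.Prime 3) := ⟨Nat.prime_three⟩
  have hc : Nat.card Spor.ON = 460815505920 := NotCT.Orders.on ⟨MulEquiv.refl _⟩
  have hfin : Finite Spor.ON := Nat.finite_of_card_ne_zero (by rw [hc]; norm_num)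
  have hs : IsSimpleGroup Spor.ON := Cfsg.Agent.S1699.result.1
  obtain ⟨E, hE, hab, -⟩ := CpAut.SporThree.ON.exists_E
  have hEc : Nat.card E = 3 ^ (Nat.card Spor.ON).factorization 3 := by
    rw [hE, hc]
    have h1 : (460815505920 : ℕ) = 3 ^ 4 * 5689080320 := by norm_num
    rw [h1, Nat.factorization_mul (by norm_num) (by norm_num), Finsupp.add_apply, Nat.Prime.factorization_pow Nat.prime_three,
      Finsupp.single_eq_same, Nat.factorization_eq_zero_of_not_dvd (by norm_num)]
  exact NN.of_abelian (by rw [hc]; norm_num) (by rw [hc]; norm_num) (Sylow.ofCard E hEc) hab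

universe u

theorem on {K : Type u} [Group K] [IsSimpleGroup K] (h : Spor.IsoON K) : RowS 3 K := by
  have : Fact (Nat.Prime 3) := ⟨Nat.prime_three⟩
  have hc : Nat.card Spor.ON = 460815505920 := NotCT.Orders.on ⟨MulEquiv.refl _⟩
  have hfin : Finite Spor.ON := Nat.finite_of_card_ne_zero (by rw [hc]; norm_num)
  have hs : IsSimpleGroup Spor.ON := Cfsg.Agent.S1699.result.1
  obtain ⟨e⟩ := h
  refine (rowS_of_NN (H711.RowCount.center_eq_bot (by rw [hc]; norm_num)) ?_ nn_on).congr e.symm
  intro h0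
  have h1 : 3 ∣ Nat.card (Out Spor.ON) := h0
  rw [S2078.result] at h1
  norm_num at h1

end Cfsg.Agent.H712.GmnON
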