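import Mathlib
import Cfsg.Agent.H467.OddNorm
import Cfsg.Agent.H712.GmnHN
import Cfsg.Agent.H712.GmnON
import Cfsg.Agent.R04.ONThree

/-!
# `Ev 3` for O'Nan and Harada-Norton (helper712; for S3855)

`evIn_of_index` : a subgroup `H` with `p² ∤ |G : H|` all of whose elements of order `p` are real in `G` gives `EvIn p G`.
`evIn_of_abelian` : an abelian Sylow subgroup and one real element of order `p`.
-/

set_option autoImplicit false

open Subgroup

namespace Cfsg.Agent.H712.EvRows

open Cfsg Cfsg.Agent.H711.Crit Cfsg.Agent.H712.Gmn Cfsg.Agent.H467.OddNorm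

section

variable {p : ℕ} [hp : Fact p.Prime] {G : Type*} [Group G] [Finite G]

theorem not_dvd_index_of_central (Q : Sylow p G) {z : G} (hz : ∀ x ∈ Q, x * z = z * x) :
    ¬ p ∣ (centralizer ({z} : Set G)).index := fun h => by
  have hle : (Q : Subgroup G) ≤ centralizer ({z} : Set G) := fun x hx => mem_centralizer_singleton_iff.2 (hz x hx)
  exact Q.not_dvd_index (h.trans (index_dvd_of_le hle))

/-- one real central element of order `p` -/
theorem evIn_of_central (hp2 : p ≠ 2) (Q : Sylow p G) {z : G} (hzo : orderOf z = p) (hz : ∀ x ∈ Q, x * z = z * x)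
    (hreal : IsConj z z⁻¹) : EvIn p G := by
  obtain ⟨g, hg⟩ := isConj_iff.1 hreal
  refine EvIn.of_real hp2 (z := z) (g := g) ?_ ⟨1, by rw [pow_one, ← hzo, pow_orderOf_eq_one]⟩
    (not_dvd_index_of_central Q hz) hg
  rintro rfl
  rw [orderOf_one] at hzo
  exact hp.out.one_lt.ne hzo

theorem evIn_of_abelian (hp2 : p ≠ 2) (Q : Sylow p G) (hab : ∀ x ∈ Q, ∀ y ∈ Q, x * y = y * x) {z : G}
    (hzo : orderOf z = p) (hreal : IsConj z z⁻¹) : EvIn p G := by
  have hzp : IsPGroup p (zpowers z) := IsPGroup.of_card (n := 1) (by rw [Nat.card_zpowers, hzo, pow_one])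
  obtain ⟨R, hR⟩ := hzp.exists_le_sylow
  refine evIn_of_central hp2 R hzo (fun x hx => ?_) hreal
  obtain ⟨g, rfl⟩ := MulAction.exists_smul_eq G Q R
  have key : ∀ x : G, x ∈ g • Q ↔ g⁻¹ * x * g ∈ Q := by
    intro x
    rw [← SetLike.mem_coe, Sylow.coe_smul, Set.mem_smul_set_iff_inv_smul_mem]
    have : (MulAut.conj g)⁻¹ • x = g⁻¹ * x * g := by
      rw [← map_inv, MulAut.smul_def, MulAut.conj_apply, inv_inv]
    rw [this, SetLike.mem_coe]
  have h1 := (key x).1 hx
  have h2 := (key z).1 (hR (mem_zpowers z))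
  have h3 := hab _ h1 _ h2
  have e1 : g⁻¹ * x * g * (g⁻¹ * z * g) = g⁻¹ * (x * z) * g := by group
  have e2 : g⁻¹ * z * g * (g⁻¹ * x * g) = g⁻¹ * (z * x) * g := by group
  rw [e1, e2] at h3
  exact mul_left_cancel (mul_right_cancel h3)

theorem evIn_of_index (hp2 : p ≠ 2) (H : Subgroup G) (hd : p ∣ Nat.card H) (hi : ¬ p ^ 2 ∣ H.index)
    (hreal : ∀ z ∈ H, orderOf z = p → IsConj z z⁻¹) : EvIn p G := by
  obtain ⟨P⟩ : Nonempty (Sylow p H) := inferInstance
  obtain ⟨w, hwP, hwo, hwc⟩ := exists_central P hd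
  have hPp : IsPGroup p ((P : Subgroup H).map H.subtype) := P.isPGroup'.map _
  obtain ⟨Q, hQ⟩ := hPp.exists_le_sylow
  have hPc : Nat.card ((P : Subgroup H).map H.subtype) = Nat.card (P : Subgroup H) :=
    card_map_of_injective (subtype_injective _)
  -- the orders
  have hcard : Nat.card (Q : Subgroup G) ∣ p * Nat.card (P : Subgroup H) := by
    rw [Q.card_eq_multiplicity, P.card_eq_multiplicity, ← pow_succ']
    refine pow_dvd_pow p ?_
    rw [← H.card_mul_index, Nat.factorization_mul Nat.card_pos.ne' (index_ne_zero_of_finite), Finsupp.add_apply]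
    have : H.index.factorization p < 2 := by
      by_contra h0
      push Not at h0
      exact hi ((pow_dvd_pow p h0).trans (Nat.ordProj_dvd _ _))
    omega
  by_cases hA : ∀ c ∈ Q, (∀ y ∈ Q, y * c = c * y) → c ∈ (P : Subgroup H).map H.subtype
  · have hdG : p ∣ Nat.card G := hd.trans (card_subgroup_dvd_card H)
    obtain ⟨c, hcQ, hco, hcc⟩ := exists_central Q hdG
    obtain ⟨h, -, rfl⟩ := hA c hcQ hcc
    exact evIn_of_central hp2 Q hco hcc (hreal _ h.2 hco)
  · push Not at hA
    obtain ⟨c, hcQ, hcc, hcP⟩ := hA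
    have hwo' : orderOf (w : G) = p := by rw [orderOf_coe]; exact hwo
    have hwQ : (w : G) ∈ Q := hQ (mem_map_of_mem H.subtype hwP)
    -- the centralizer of `w` in `Q`
    set K : Subgroup G := (Q : Subgroup G) ⊓ centralizer ({(w : G)} : Set G) with hK
    have hPK : (P : Subgroup H).map H.subtype ≤ K := by
      refine le_inf hQ ?_
      rintro _ ⟨x, hx, rfl⟩
      rw [mem_centralizer_singleton_iff]
      exact congrArg Subtype.val (hwc x hx)
    have hcK : c ∈ K := ⟨hcQ, mem_centralizer_singleton_iff.2 (hcc _ hwQ).symm⟩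
    have hlt : (P : Subgroup H).map H.subtype < K := lt_of_le_of_ne hPK fun h0 => hcP (h0 ▸ hcK)
    have hKQ : K = (Q : Subgroup G) := by
      refine eq_of_le_of_card_ge inf_le_left ?_
      have h1 : Nat.card (P : Subgroup H) ∣ Nat.card K := hPc ▸ card_dvd_of_le hPK
      obtain ⟨m, hm⟩ := h1
      obtain ⟨n, hn⟩ := (Q.isPGroup'.to_le (inf_le_left : K ≤ (Q : Subgroup G))).exists_card_eq
      have hm1 : m ≠ 1 := by
        rintro rfl
        apply hlt.ne
        refine eq_of_le_of_card_ge hPK ?_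
        rw [hm, hPc, mul_one]
      have hpm : p ∣ m := by
        have h2 : m ∣ p ^ n := ⟨Nat.card (P : Subgroup H), by rw [← hn, hm, mul_comm]⟩
        obtain ⟨k, -, hk⟩ := (Nat.dvd_prime_pow hp.out).1 h2
        rw [hk]
        refine dvd_pow_self p fun h0 => hm1 ?_
        rw [hk, h0, pow_zero]
      have h3 : p * Nat.card (P : Subgroup H) ∣ Nat.card K := by
        rw [hm, mul_comm]
        exact Nat.mul_dvd_mul_left _ hpm
      exact Nat.le_of_dvd Nat.card_pos (hcard.trans h3)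
    refine evIn_of_central hp2 Q hwo' (fun x hx => ?_) (hreal _ w.2 hwo')
    have hx' : x ∈ K := by rw [hKQ]; exact hx
    exact mem_centralizer_singleton_iff.1 hx'.2

/-- all `p`-automorphisms are inner -/
theorem innP_of_out {S : Type*} [Group S] [Finite S] (hOut : ¬ p ∣ Nat.card (MulAut S ⧸ (MulAut.conj : S →* MulAut S).range)) :
    InnP p S := by
  have : Finite (MulAut S) := finite_mulAut
  rintro a ⟨k, hk'⟩
  have h1 : (QuotientGroup.mk a : MulAut S ⧸ (MulAut.conj : S →* MulAut S).range) = 1 := by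
    have h2 : (QuotientGroup.mk a : MulAut S ⧸ (MulAut.conj : S →* MulAut S).range) ^ (p ^ k) = 1 := by
      rw [← QuotientGroup.mk_pow, hk']; rfl
    have h3 := orderOf_dvd_of_pow_eq_one h2
    have h4 := orderOf_dvd_natCard (QuotientGroup.mk a : MulAut S ⧸ (MulAut.conj : S →* MulAut S).range)
    have h5 : Nat.Coprime (Nat.card (MulAut S ⧸ (MulAut.conj : S →* MulAut S).range)) (p ^ k) :=
      Nat.Coprime.pow_right k ((Nat.Prime.coprime_iff_not_dvd Fact.out).2 hOut).symm
    exact orderOf_eq_one_iff.1 (Nat.dvd_one.1 (h5 ▸ Nat.dvd_gcd h4 h3))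
  obtain ⟨s, hs⟩ := (QuotientGroup.eq_one_iff a).1 h1
  exact ⟨s, hs.symm⟩

end

universe u

theorem evIn_hn : EvIn 3 Spor.HN := by
  have hp3 : Fact (Nat.Prime 3) := ⟨Nat.prime_three⟩
  have hc : Nat.card Spor.HN = 273030912000000 := NotCT.Orders.hn ⟨MulEquiv.refl _⟩
  have hfin : Finite Spor.HN := Nat.finite_of_card_ne_zero (by rw [hc]; norm_num)
  have hs : IsSimpleGroup Spor.HN := Cfsg.Agent.S1701.result.1
  have hcr : Nat.card (CpAutHN.Alt.Φ).range = 239500800 := by
    rw [← Nat.card_congr (MonoidHom.ofInjective CpAutHN.Alt.Φ_inj).toEquiv, nat_card_alternatingGroup,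
      Nat.card_eq_fintype_card, Fintype.card_fin]
    decide
  refine evIn_of_index (by norm_num) (CpAutHN.Alt.Φ).range (by rw [hcr]; norm_num) ?_ ?_
  · have h1 := (CpAutHN.Alt.Φ).range.card_mul_index
    rw [hcr, hc] at h1
    have h2 : (CpAutHN.Alt.Φ).range.index = 1140000 := by omega
    rw [h2]
    norm_num
  · rintro _ ⟨x, rfl⟩ hz
    rw [orderOf_injective _ CpAutHN.Alt.Φ_inj] at hz
    obtain ⟨g, hg, h⟩ := GmnHN.real_alt (x := (x : Equiv.Perm (Fin 12))) (by rw [orderOf_coe]; exact hz)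
    refine isConj_iff.2 ⟨CpAutHN.Alt.Φ ⟨g, hg⟩, ?_⟩
    rw [← map_mul, ← map_inv, ← map_mul, ← map_inv]
    exact congrArg _ (Subtype.ext h)

theorem ev_hn {K : Type u} [Group K] (h : Spor.IsoHN K) : Ev 3 K := by
  have : Fact (Nat.Prime 3) := ⟨Nat.prime_three⟩
  have hc : Nat.card Spor.HN = 273030912000000 := NotCT.Orders.hn ⟨MulEquiv.refl _⟩
  have hfin : Finite Spor.HN := Nat.finite_of_card_ne_zero (by rw [hc]; norm_num)
  have hs : IsSimpleGroup Spor.HN := Cfsg.Agent.S1701.result.1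
  obtain ⟨e⟩ := h
  refine (Ev.of_inner (innP_of_out ?_) evIn_hn (H711.RowCount.center_eq_bot (by rw [hc]; norm_num))).congr e.symm
  intro h0
  have h1 : 3 ∣ Nat.card (Out Spor.HN) := h0
  rw [S2082.result] at h1
  norm_num at h1

theorem evIn_on : EvIn 3 Spor.ON := by
  have : Fact (Nat.Prime 3) := ⟨Nat.prime_three⟩
  have hc : Nat.card Spor.ON = 460815505920 := NotCT.Orders.on ⟨MulEquiv.refl _⟩
  have hfin : Finite Spor.ON := Nat.finite_of_card_ne_zero (by rw [hc]; norm_num)
  have hs : IsSimpleGroup Spor.ON := Cfsg.Agent.S1699.result.1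
  obtain ⟨E, hE, hab, -⟩ := CpAut.SporThree.ON.exists_E
  have hEc : Nat.card E = 3 ^ (Nat.card Spor.ON).factorization 3 := by
    rw [hE, hc]
    have h1 : (460815505920 : ℕ) = 3 ^ 4 * 5689080320 := by norm_num
    rw [h1, Nat.factorization_mul (by norm_num) (by norm_num), Finsupp.add_apply, Nat.Prime.factorization_pow Nat.prime_three,
      Finsupp.single_eq_same, Nat.factorization_eq_zero_of_not_dvd (by norm_num)]
  have D := R04.ONThree.data hs
  refine evIn_of_abelian (by norm_num) (Sylow.ofCard E hEc) hab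
    (z := Cfsg.Agent.SporadicB.ON45Word.on .a * Cfsg.Agent.SporadicB.ON45Word.on .b)
    (orderOf_eq_prime D.ab3 R04.ONThree.ab_ne)
    (isConj_iff.2 ⟨Cfsg.Agent.SporadicB.ON45Word.on .a, ?_⟩)
  rw [← mul_assoc, D.aa, one_mul, mul_inv_rev, inv_eq_of_mul_eq_one_right D.bb]

theorem ev_on {K : Type u} [Group K] (h : Spor.IsoON K) : Ev 3 K := by
  have : Fact (Nat.Prime 3) := ⟨Nat.prime_three⟩
  have hc : Nat.card Spor.ON = 460815505920 := NotCT.Orders.on ⟨MulEquiv.refl _⟩
  have hfin : Finite Spor.ON := Nat.finite_of_card_ne_zero (by rw [hc]; norm_num)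
  have hs : IsSimpleGroup Spor.ON := Cfsg.Agent.S1699.result.1
  obtain ⟨e⟩ := h
  refine (Ev.of_inner (innP_of_out ?_) evIn_on (H711.RowCount.center_eq_bot (by rw [hc]; norm_num))).congr e.symm
  intro h0
  have h1 : 3 ∣ Nat.card (Out Spor.ON) := h0
  rw [S2078.result] at h1
  norm_num at h1

end Cfsg.Agent.H712.EvRows
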