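import Mathlib
import Cfsg.Prelude.Def_Classification2
import Cfsg.Prelude.Def_LieTypeChar
import Cfsg.Agent.H507.GmnRows
import Cfsg.Agent.H709.GmnPSUNot
import Cfsg.Agent.H712.GmnRed
import Cfsg.Agent.H142.GmnTable
import Cfsg.Agent.OddHalf.Known

/-!
# The table of the Guralnick–Malle–Navarro theorem, `p` odd (helper712)

* `Goal p G` : `RowS p G`, or `p = 3` and `G ≅ PSL₂(3^f)`;
* `Rows p` : the rows still needed;
* `Rows.goal` : every known nonabelian simple group of order divisible by the odd prime `p` satisfies `Goal p`.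
-/

set_option autoImplicit false

open Subgroup

namespace Cfsg.Agent.H712.GmnTable

open Cfsg Cfsg.Agent.H712.Gmn

universe u

/-- the conclusion of the theorem -/
def Goal (p : ℕ) (G : Type*) [Group G] : Prop :=
  RowS p G ∨ (p = 3 ∧ ∃ (F : Type) (_ : Field F) (_ : Fintype F), CharP F 3 ∧ 3 < Fintype.card F ∧
    Nonempty (G ≃* Matrix.ProjectiveSpecialLinearGroup (Fin 2) F))

/-- the strong row for all nonabelian simple groups with the property `C` -/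
def RowFor (p : ℕ) (C : ∀ (X : Type) [Group X], Prop) : Prop :=
  ∀ (X : Type) [Group X] [Finite X] [IsSimpleGroup X], ¬ IsMulCommutative X → p ∣ Nat.card X → C X → RowS p X

/-- the rows -/
structure Rows (p : ℕ) : Prop where
  alt : RowFor p (fun X _ => IsAlternating X)
  lie : ∀ (X : Type) [Group X] [Finite X] [IsSimpleGroup X], ¬ IsMulCommutative X → IsLieTypeChar p X → Goal p X
  oodd : RowFor p (fun X _ => ∃ (F : Type) (_ : Field F) (_ : Fintype F) (m : ℕ), (p : F) ≠ 0 ∧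
    3 ≤ m ∧ Odd (Fintype.card F) ∧ Nonempty (X ≃* POmega F (quadFormOdd m F)))
  oplus : RowFor p (fun X _ => ∃ (F : Type) (_ : Field F) (_ : Fintype F) (m : ℕ), (p : F) ≠ 0 ∧
    4 ≤ m ∧ Nonempty (X ≃* POmega F (quadFormPlus m F)))
  ominus : RowFor p (fun X _ => ∃ (F : Type) (_ : Field F) (_ : Fintype F) (m : ℕ) (a b : F), (p : F) ≠ 0 ∧
    4 ≤ m ∧ (∀ z₁ z₂ : F, z₁ ^ 2 + a * z₁ * z₂ + b * z₂ ^ 2 = 0 → z₁ = 0 ∧ z₂ = 0) ∧
    Nonempty (X ≃* POmega F (quadFormMinus (m - 1) F a b)))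
  g2 : RowFor p (fun X _ => ∃ (F : Type) (_ : Field F) (_ : Fintype F), (p : F) ≠ 0 ∧ 3 ≤ Fintype.card F ∧
    Nonempty (X ≃* Lie.chevG2.group F))
  f4 : RowFor p (fun X _ => ∃ (F : Type) (_ : Field F) (_ : Fintype F), (p : F) ≠ 0 ∧ Nonempty (X ≃* Lie.chevF4.group F))
  e6 : RowFor p (fun X _ => ∃ (F : Type) (_ : Field F) (_ : Fintype F), (p : F) ≠ 0 ∧ Nonempty (X ≃* Lie.chevE6.group F))
  e7 : RowFor p (fun X _ => ∃ (F : Type) (_ : Field F) (_ : Fintype F), (p : F) ≠ 0 ∧ Nonempty (X ≃* Lie.chevE7.group F))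
  e8 : RowFor p (fun X _ => ∃ (F : Type) (_ : Field F) (_ : Fintype F), (p : F) ≠ 0 ∧ Nonempty (X ≃* Lie.chevE8.group F))
  te6 : RowFor p (fun X _ => ∃ (K : Type) (_ : Field K) (_ : Fintype K) (q : ℕ), (p : K) ≠ 0 ∧ IsPrimePow q ∧
    Fintype.card K = q ^ 2 ∧ Nonempty (X ≃* Lie.twistedE6 K q))
  td4 : RowFor p (fun X _ => ∃ (K : Type) (_ : Field K) (_ : Fintype K) (q : ℕ), (p : K) ≠ 0 ∧ IsPrimePow q ∧
    Fintype.card K = q ^ 3 ∧ Nonempty (X ≃* Lie.twistedD4 K q))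
  sz : RowFor p (fun X _ => Lie.IsoSuzuki X)
  ree : p ≠ 3 → RowFor p (fun X _ => Lie.IsoRee X)
  tf4 : RowFor p (fun X _ => Lie.Iso2F4 X)
  tits : RowFor p (fun X _ => Lie.IsoTits X)
  spor : RowFor p (fun X _ => IsSporadicGroup X)

theorem Goal.congr {p : ℕ} {G : Type*} [Group G] {X : Type*} [Group X] (e : G ≃* X) (h : Goal p X) : Goal p G := by
  rcases h with h | ⟨h3, F, _, _, hF, hF3, ⟨e'⟩⟩
  · exact Or.inl (h.congr e.symm)
  · exact Or.inr ⟨h3, F, _, _, hF, hF3, ⟨e.trans e'⟩⟩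

theorem charP_of {p : ℕ} [Fact p.Prime] {F : Type*} [Field F] (h : (p : F) = 0) : CharP F p :=
  (CharP.charP_iff_prime_eq_zero Fact.out).2 h

section

variable {p : ℕ} [hp : Fact p.Prime]

theorem nonab_congr {X Y : Type*} [Group X] [Group Y] (e : X ≃* Y) (h : ¬ IsMulCommutative X) : ¬ IsMulCommutative Y := by
  intro hc
  refine h ⟨⟨fun a b => e.injective ?_⟩⟩
  rw [map_mul, map_mul]
  exact hc.is_comm.comm _ _

theorem center_congr {X Y : Type*} [Group X] [IsSimpleGroup X] [Group Y] (e : X ≃* Y) (h : ¬ IsMulCommutative X) :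
    center Y = ⊥ := by
  have hs : IsSimpleGroup Y := e.symm.isSimpleGroup
  exact H142.GmnTable.center_eq_bot (nonab_congr e h)

theorem not_dvd_of {q : ℕ} {F : Type*} [Field F] [Fintype F] (hq : Fintype.card F = q ^ 2) (hF : (p : F) ≠ 0) : ¬ p ∣ q := by
  intro hpq
  apply hF
  have h3 : p ∣ Fintype.card F := by
    rw [hq]
    exact dvd_pow hpq (by norm_num)
  obtain ⟨r, hr⟩ := CharP.exists F
  obtain ⟨n, hrp, hcard⟩ := FiniteField.card F r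
  rw [hcard] at h3
  have h4 := (Nat.prime_dvd_prime_iff_eq hp.out hrp).1 (hp.out.dvd_of_dvd_pow h3)
  rw [h4]
  exact CharP.cast_eq_zero F r

variable {X : Type} [Group X] [Finite X] [IsSimpleGroup X]

theorem Rows.psl (R : Rows p) (hp2 : p ≠ 2) (hna : ¬ IsMulCommutative X) (hd : p ∣ Nat.card X) (h : IsPSL X) :
    Goal p X := by
  obtain ⟨F, iF, iN, n, hn, hn2, ⟨e⟩⟩ := h
  by_cases hF : (p : F) = 0
  · have h1 : IsPSLChar p X := ⟨F, iF, iN, charP_of hF, n, hn, hn2, ⟨e⟩⟩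
    exact R.lie X hna (Or.inl h1)
  · have hf : Finite (Matrix.ProjectiveSpecialLinearGroup (Fin n) F) := Finite.of_equiv _ e.toEquiv
    refine Or.inl (RowS.congr e.symm (H507.GmnRows.rowS_psl hn hp2 hF (center_congr e hna) ?_))
    rwa [← Nat.card_congr e.toEquiv]

theorem Rows.psp (R : Rows p) (hp2 : p ≠ 2) (hna : ¬ IsMulCommutative X) (hd : p ∣ Nat.card X) (h : IsPSp X) :
    Goal p X := by
  obtain ⟨F, iF, iN, n, hn, hn2, ⟨e⟩⟩ := h
  by_cases hF : (p : F) = 0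
  · have h1 : IsPSpChar p X := ⟨F, iF, iN, charP_of hF, n, hn, hn2, ⟨e⟩⟩
    exact R.lie X hna (Or.inr (Or.inl h1))
  · refine Or.inl (RowS.congr e.symm (H507.GmnRows.rowS_psp hp2 hF (center_congr e hna) ?_))
    rwa [← Nat.card_congr e.toEquiv]

theorem Rows.psu (R : Rows p) (hp2 : p ≠ 2) (hna : ¬ IsMulCommutative X) (hd : p ∣ Nat.card X) (h : IsPSU X) :
    Goal p X := by
  obtain ⟨F, iF, iN, n, q, hq, hn, hn2, ⟨e⟩⟩ := h
  by_cases hF : (p : F) = 0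
  · have h1 : IsPSUChar p X := ⟨F, iF, iN, charP_of hF, n, q, hq, hn, hn2, ⟨e⟩⟩
    exact R.lie X hna (Or.inr (Or.inr (Or.inl h1)))
  · have hf : Finite (PSU n F q) := Finite.of_equiv _ e.toEquiv
    refine Or.inl (RowS.congr e.symm (rowS_of_good (center_congr e hna) fun A hA Q hQ =>
        H709.GmnPSUNot.good_all hq hn hn2 hp2 (not_dvd_of hq hF) ?_ A hA Q hQ))
    rwa [← Nat.card_congr e.toEquiv]

theorem Rows.podd (R : Rows p) (hna : ¬ IsMulCommutative X) (hd : p ∣ Nat.card X) (h : IsPOmegaOdd X) :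
    Goal p X := by
  obtain ⟨F, iF, iN, m, hm, hodd, ⟨e⟩⟩ := h
  by_cases hF : (p : F) = 0
  · have h1 : IsPOmegaOddChar p X := ⟨F, iF, iN, charP_of hF, m, hm, hodd, ⟨e⟩⟩
    exact R.lie X hna (Or.inr (Or.inr (Or.inr (Or.inl h1))))
  · exact Or.inl (R.oodd X hna hd ⟨F, iF, iN, m, hF, hm, hodd, ⟨e⟩⟩)

theorem Rows.pplus (R : Rows p) (hna : ¬ IsMulCommutative X) (hd : p ∣ Nat.card X) (h : IsPOmegaPlus X) :
    Goal p X := by
  obtain ⟨F, iF, iN, m, hm, ⟨e⟩⟩ := h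
  by_cases hF : (p : F) = 0
  · have h1 : IsPOmegaPlusChar p X := ⟨F, iF, iN, charP_of hF, m, hm, ⟨e⟩⟩
    exact R.lie X hna (Or.inr (Or.inr (Or.inr (Or.inr (Or.inl h1)))))
  · exact Or.inl (R.oplus X hna hd ⟨F, iF, iN, m, hF, hm, ⟨e⟩⟩)

theorem Rows.pminus (R : Rows p) (hna : ¬ IsMulCommutative X) (hd : p ∣ Nat.card X) (h : IsPOmegaMinus X) :
    Goal p X := by
  obtain ⟨F, iF, iN, m, a, b, hm, hab, ⟨e⟩⟩ := h
  by_cases hF : (p : F) = 0
  · have h1 : IsPOmegaMinusChar p X := ⟨F, iF, iN, charP_of hF, m, a, b, hm, hab, ⟨e⟩⟩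
    exact R.lie X hna (Or.inr (Or.inr (Or.inr (Or.inr (Or.inr (Or.inl h1))))))
  · exact Or.inl (R.ominus X hna hd ⟨F, iF, iN, m, a, b, hF, hm, hab, ⟨e⟩⟩)

omit hp in
theorem Rows.lie_exc (R : Rows p) (hna : ¬ IsMulCommutative X) (h : IsExceptionalChevChar p X) : Goal p X :=
  R.lie X hna (Or.inr (Or.inr (Or.inr (Or.inr (Or.inr (Or.inr (Or.inl h)))))))

omit hp in
theorem Rows.lie_tw (R : Rows p) (hna : ¬ IsMulCommutative X) (h : IsTwistedE6D4Char p X) : Goal p X :=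
  R.lie X hna (Or.inr (Or.inr (Or.inr (Or.inr (Or.inr (Or.inr (Or.inr (Or.inl h))))))))

theorem Rows.exc (R : Rows p) (hna : ¬ IsMulCommutative X) (hd : p ∣ Nat.card X)
    (h : IsExceptionalLieType X) : Goal p X := by
  rcases h with h | h | h | h | h | h | h | h | h | h | h
  · obtain ⟨F, iF, iN, h3, ⟨e⟩⟩ := h
    by_cases hF : (p : F) = 0
    · exact R.lie_exc hna ⟨F, iF, iN, charP_of hF, Or.inl ⟨h3, ⟨e⟩⟩⟩
    · exact Or.inl (R.g2 X hna hd ⟨F, iF, iN, hF, h3, ⟨e⟩⟩)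
  · obtain ⟨F, iF, iN, ⟨e⟩⟩ := h
    by_cases hF : (p : F) = 0
    · exact R.lie_exc hna ⟨F, iF, iN, charP_of hF, Or.inr (Or.inl ⟨e⟩)⟩
    · exact Or.inl (R.f4 X hna hd ⟨F, iF, iN, hF, ⟨e⟩⟩)
  · obtain ⟨F, iF, iN, ⟨e⟩⟩ := h
    by_cases hF : (p : F) = 0
    · exact R.lie_exc hna ⟨F, iF, iN, charP_of hF, Or.inr (Or.inr (Or.inl ⟨e⟩))⟩
    · exact Or.inl (R.e6 X hna hd ⟨F, iF, iN, hF, ⟨e⟩⟩)
  · obtain ⟨F, iF, iN, ⟨e⟩⟩ := h
    by_cases hF : (p : F) = 0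
    · exact R.lie_exc hna ⟨F, iF, iN, charP_of hF, Or.inr (Or.inr (Or.inr (Or.inl ⟨e⟩)))⟩
    · exact Or.inl (R.e7 X hna hd ⟨F, iF, iN, hF, ⟨e⟩⟩)
  · obtain ⟨F, iF, iN, ⟨e⟩⟩ := h
    by_cases hF : (p : F) = 0
    · exact R.lie_exc hna ⟨F, iF, iN, charP_of hF, Or.inr (Or.inr (Or.inr (Or.inr ⟨e⟩)))⟩
    · exact Or.inl (R.e8 X hna hd ⟨F, iF, iN, hF, ⟨e⟩⟩)
  · obtain ⟨K, iF, iN, q, hq, hK, ⟨e⟩⟩ := h
    by_cases hF : (p : K) = 0
    · exact R.lie_tw hna ⟨K, iF, iN, charP_of hF, q, hq, Or.inl ⟨hK, ⟨e⟩⟩⟩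
    · exact Or.inl (R.te6 X hna hd ⟨K, iF, iN, q, hF, hq, hK, ⟨e⟩⟩)
  · obtain ⟨K, iF, iN, q, hq, hK, ⟨e⟩⟩ := h
    by_cases hF : (p : K) = 0
    · exact R.lie_tw hna ⟨K, iF, iN, charP_of hF, q, hq, Or.inr ⟨hK, ⟨e⟩⟩⟩
    · exact Or.inl (R.td4 X hna hd ⟨K, iF, iN, q, hF, hq, hK, ⟨e⟩⟩)
  · exact Or.inl (R.sz X hna hd h)
  · by_cases hp3 : p = 3
    · exact R.lie X hna (Or.inr (Or.inr (Or.inr (Or.inr (Or.inr (Or.inr (Or.inr (Or.inr (Or.inr (Or.inr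
        ⟨hp3, h⟩))))))))))
    · exact Or.inl (R.ree hp3 X hna hd h)
  · exact Or.inl (R.tf4 X hna hd h)
  · exact Or.inl (R.tits X hna hd h)

/-- **The table**: from the rows. -/
theorem Rows.goal (R : Rows p) (hp2 : p ≠ 2) {G : Type u} [Group G] [Finite G] [IsSimpleGroup G]
    (hna : ¬ IsMulCommutative G) (hd : p ∣ Nat.card G) (hk : IsKnownSimple' G) : Goal p G := by
  have e : G ≃* Shrink.{0} G := (Shrink.mulEquiv.{0}).symm
  have hf : Finite (Shrink.{0} G) := Finite.of_equiv _ e.toEquiv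
  have hs : IsSimpleGroup (Shrink.{0} G) := e.symm.isSimpleGroup
  have h1 := nonab_congr e hna
  have h2 : p ∣ Nat.card (Shrink.{0} G) := by rwa [← Nat.card_congr e.toEquiv]
  refine Goal.congr e ?_
  rcases OddHalf.Known.isKnownSimple'_congr e hna hk with h | h | h | h | h | h | h | h | h | h
  · -- cyclic
    exfalso
    have h3 : (Nat.card (Shrink.{0} G)).Prime := h
    have : Fact (Nat.card (Shrink.{0} G)).Prime := ⟨h3⟩
    have hc : IsCyclic (Shrink.{0} G) := isCyclic_of_prime_card rfl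
    exact h1 ⟨⟨fun a b => by
      let _ : CommGroup (Shrink.{0} G) := IsCyclic.commGroup
      exact mul_comm a b⟩⟩
  · exact Or.inl (R.alt _ h1 h2 h)
  · exact R.psl hp2 h1 h2 h
  · exact R.psp hp2 h1 h2 h
  · exact R.psu hp2 h1 h2 h
  · exact R.podd h1 h2 h
  · exact R.pplus h1 h2 h
  · exact R.pminus h1 h2 h
  · exact R.exc h1 h2 h
  · exact Or.inl (R.spor _ h1 h2 h)

end

end Cfsg.Agent.H712.GmnTable
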