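import Mathlib
import Cfsg.Agent.H712.GmnTable
import Cfsg.Agent.H681.GmnLie
import Cfsg.Agent.H507.GmnOrthRows
import Cfsg.Agent.H709.GmnPOmega
import Cfsg.Agent.H696.GmnUntw

/-!
# The table of the Guralnick–Malle–Navarro theorem, `p` odd: the rows (helper712)
-/

set_option autoImplicit false

open Subgroup

namespace Cfsg.Agent.H712.GmnInst

open Cfsg Cfsg.Agent.H712.Gmn Cfsg.Agent.H712.GmnTable

variable {p : ℕ} [hp : Fact p.Prime]

/-- the defining characteristic -/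
theorem lie (hp2 : p ≠ 2) (X : Type) [Group X] [Finite X] [IsSimpleGroup X] (hna : ¬ IsMulCommutative X)
    (h : IsLieTypeChar p X) : Goal p X := by
  rcases H681.GmnLie.rowS_lie hp2 (H142.GmnTable.center_eq_bot hna) h with h1 | ⟨h3, F, iF, iN, hF, h4, -, e⟩
  · exact Or.inl h1
  · exact Or.inr ⟨h3, F, iF, iN, hF, by omega, e⟩

theorem oodd (hp2 : p ≠ 2) : RowFor p (fun X _ => ∃ (F : Type) (_ : Field F) (_ : Fintype F) (m : ℕ), (p : F) ≠ 0 ∧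
    3 ≤ m ∧ Odd (Fintype.card F) ∧ Nonempty (X ≃* POmega F (quadFormOdd m F))) := by
  rintro X _ _ _ hna hd ⟨F, iF, iN, m, hF, hm, hodd, ⟨e⟩⟩
  refine RowS.congr e.symm (H507.GmnOrthRows.rowS_odd (by omega) hodd hp2 hF (center_congr e hna) ?_)
  rwa [← Nat.card_congr e.toEquiv]

theorem oplus (hp2 : p ≠ 2) : RowFor p (fun X _ => ∃ (F : Type) (_ : Field F) (_ : Fintype F) (m : ℕ), (p : F) ≠ 0 ∧
    4 ≤ m ∧ Nonempty (X ≃* POmega F (quadFormPlus m F))) := by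
  rintro X _ _ _ hna hd ⟨F, iF, iN, m, hF, hm, ⟨e⟩⟩
  refine RowS.congr e.symm ?_
  by_cases h : Odd m ∧ p ∣ Fintype.card F - 1
  · have h5 : 5 ≤ m := by
      obtain ⟨k, hk⟩ := h.1
      omega
    exact H709.GmnPOmega.rowS_plus h5 hp2 h.2
  · refine H507.GmnOrthRows.rowS_plus (by omega) h hp2 hF (center_congr e hna) ?_
    rwa [← Nat.card_congr e.toEquiv]

theorem ominus (hp2 : p ≠ 2) : RowFor p (fun X _ => ∃ (F : Type) (_ : Field F) (_ : Fintype F) (m : ℕ) (a b : F),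
    (p : F) ≠ 0 ∧ 4 ≤ m ∧ (∀ z₁ z₂ : F, z₁ ^ 2 + a * z₁ * z₂ + b * z₂ ^ 2 = 0 → z₁ = 0 ∧ z₂ = 0) ∧
    Nonempty (X ≃* POmega F (quadFormMinus (m - 1) F a b))) := by
  rintro X _ _ _ hna hd ⟨F, iF, iN, m, a, b, hF, hm, hab, ⟨e⟩⟩
  refine RowS.congr e.symm ?_
  by_cases h : Odd m ∧ p ∣ Fintype.card F + 1
  · have h5 : 5 ≤ m := by
      obtain ⟨k, hk⟩ := h.1
      omega
    exact H709.GmnPOmega.rowS_minus h5 h.1 hp2 h.2 a b hab
  · refine H507.GmnOrthRows.rowS_minus (by omega) hab h hp2 hF (center_congr e hna) ?_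
    rwa [← Nat.card_congr e.toEquiv]

theorem g2 (hp2 : p ≠ 2) : RowFor p (fun X _ => ∃ (F : Type) (_ : Field F) (_ : Fintype F), (p : F) ≠ 0 ∧
    3 ≤ Fintype.card F ∧ Nonempty (X ≃* Lie.chevG2.group F)) := by
  rintro X _ _ _ hna hd ⟨F, iF, iN, hF, h3, ⟨e⟩⟩
  obtain ⟨r, hr⟩ := CharP.exists F
  have hrp : Fact r.Prime := ⟨CharP.char_is_prime F r⟩
  have hpr : p ≠ r := by
    rintro rfl
    exact hF (CharP.cast_eq_zero F p)
  refine RowS.congr e.symm (H696.GmnUntw.rowS_g2 hp2 hpr F h3 ?_)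
  rwa [← Nat.card_congr e.toEquiv]

theorem f4 (hp2 : p ≠ 2) : RowFor p (fun X _ => ∃ (F : Type) (_ : Field F) (_ : Fintype F), (p : F) ≠ 0 ∧
    Nonempty (X ≃* Lie.chevF4.group F)) := by
  rintro X _ _ _ hna hd ⟨F, iF, iN, hF, ⟨e⟩⟩
  obtain ⟨r, hr⟩ := CharP.exists F
  have hrp : Fact r.Prime := ⟨CharP.char_is_prime F r⟩
  have hpr : p ≠ r := by
    rintro rfl
    exact hF (CharP.cast_eq_zero F p)
  refine RowS.congr e.symm (H696.GmnUntw.rowS_f4 hp2 hpr F ?_)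
  rwa [← Nat.card_congr e.toEquiv]

theorem e8 (hp2 : p ≠ 2) : RowFor p (fun X _ => ∃ (F : Type) (_ : Field F) (_ : Fintype F), (p : F) ≠ 0 ∧
    Nonempty (X ≃* Lie.chevE8.group F)) := by
  rintro X _ _ _ hna hd ⟨F, iF, iN, hF, ⟨e⟩⟩
  obtain ⟨r, hr⟩ := CharP.exists F
  have hrp : Fact r.Prime := ⟨CharP.char_is_prime F r⟩
  have hpr : p ≠ r := by
    rintro rfl
    exact hF (CharP.cast_eq_zero F p)
  refine RowS.congr e.symm (H696.GmnUntw.rowS_e8 hp2 hpr F ?_)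
  rwa [← Nat.card_congr e.toEquiv]

end Cfsg.Agent.H712.GmnInst
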