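import Mathlib
import Cfsg.Agent.H712.GmnInst
import Cfsg.Agent.H712.GmnSpor
import Cfsg.Agent.H712.GmnON
import Cfsg.Agent.H712.GmnJThree
import Cfsg.Agent.H712.GmnHN
import Cfsg.Agent.H711.RowsA
import Cfsg.Agent.H711.RowsB
import Cfsg.Agent.H681.GmnAlt
import Cfsg.Agent.H696.GmnInv
import Cfsg.Agent.H696.GmnTwD4
import Cfsg.Agent.H142.GmnE6
import Cfsg.Agent.H507.GmnTwF

/-!
# The table of the Guralnick–Malle–Navarro theorem, `p` odd: all rows but a few (helper712)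
-/

set_option autoImplicit false

open Subgroup

namespace Cfsg.Agent.H712.GmnRows

open Cfsg Cfsg.Agent.H712.Gmn Cfsg.Agent.H712.GmnTable Cfsg.Agent.H712.GmnInst

variable {p : ℕ} [hp : Fact p.Prime]

theorem alt (hp2 : p ≠ 2) : RowFor p (fun X _ => IsAlternating X) := fun _ _ _ _ hna hd h =>
  H681.GmnAlt.rowS_isAlternating hp2 (H142.GmnTable.center_eq_bot hna) hd h

theorem e6 (hp2 : p ≠ 2) : RowFor p (fun X _ => ∃ (F : Type) (_ : Field F) (_ : Fintype F), (p : F) ≠ 0 ∧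
    Nonempty (X ≃* Lie.chevE6.group F)) := by
  rintro X _ _ _ hna hd ⟨F, iF, iN, hF, ⟨e⟩⟩
  refine RowS.congr e.symm (H142.GmnE6.rowS_e6 hp2 F hF ?_)
  rwa [← Nat.card_congr e.toEquiv]

theorem e7 (hp2 : p ≠ 2) : RowFor p (fun X _ => ∃ (F : Type) (_ : Field F) (_ : Fintype F), (p : F) ≠ 0 ∧
    Nonempty (X ≃* Lie.chevE7.group F)) := by
  rintro X _ _ _ hna hd ⟨F, iF, iN, hF, ⟨e⟩⟩
  obtain ⟨r, hr⟩ := CharP.exists F
  have hrp : Fact r.Prime := ⟨CharP.char_is_prime F r⟩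
  have hpr : p ≠ r := by
    rintro rfl
    exact hF (CharP.cast_eq_zero F p)
  refine RowS.congr e.symm (H696.GmnInv.rowS_e7 hp2 hpr F ?_)
  rwa [← Nat.card_congr e.toEquiv]

theorem td4 (hp2 : p ≠ 2) : RowFor p (fun X _ => ∃ (K : Type) (_ : Field K) (_ : Fintype K) (q : ℕ), (p : K) ≠ 0 ∧
    IsPrimePow q ∧ Fintype.card K = q ^ 3 ∧ Nonempty (X ≃* Lie.twistedD4 K q)) := by
  rintro X _ _ _ hna hd ⟨K, iF, iN, q, hF, hq, hK, ⟨e⟩⟩
  obtain ⟨r, hr⟩ := CharP.exists K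
  have hrp : Fact r.Prime := ⟨CharP.char_is_prime K r⟩
  have hpr : p ≠ r := by
    rintro rfl
    exact hF (CharP.cast_eq_zero K p)
  obtain ⟨s, n, hs, hn, hsn⟩ := (isPrimePow_nat_iff _).1 hq
  have hsr : s = r := by
    obtain ⟨k, hrp', hk⟩ := FiniteField.card K r
    have h1 : s ∣ r ^ (k : ℕ) := by
      rw [← hk, hK, ← hsn, ← pow_mul]
      exact dvd_pow_self s (by omega)
    exact (Nat.prime_dvd_prime_iff_eq hs hrp.out).1 (hs.dvd_of_dvd_pow h1)
  subst hsr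
  refine RowS.congr e.symm (H696.GmnTwD4.rowS_d4 hp2 hpr hn hsn.symm hK ?_)
  rwa [← Nat.card_congr e.toEquiv]

/-- the missing rows -/
structure Miss (p : ℕ) : Prop where
  te6 : RowFor p (fun X _ => ∃ (K : Type) (_ : Field K) (_ : Fintype K) (q : ℕ), (p : K) ≠ 0 ∧ IsPrimePow q ∧
    Fintype.card K = q ^ 2 ∧ Nonempty (X ≃* Lie.twistedE6 K q))
  co3 : ∀ (X : Type) [Group X] [Finite X] [IsSimpleGroup X], Spor.IsoCo3 X → RowS 3 X
  fi24 : ∀ (X : Type) [Group X] [Finite X] [IsSimpleGroup X], Spor.IsoFi24' X → RowS 3 X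
  th : ∀ (X : Type) [Group X] [Finite X] [IsSimpleGroup X], Spor.IsoTh X → RowS 3 X

theorem spor (hp2 : p ≠ 2) (M : Miss p) : RowFor p (fun X _ => IsSporadicGroup X) := by
  intro X _ _ _ hna hd h
  by_cases h5 : 5 ≤ p
  · exact GmnSpor.spor_five h5 hd h
  · have h3 : p = 3 := by
      have := hp.out.two_le
      have h6 : p = 3 ∨ p = 4 := by omega
      rcases h6 with h6 | h6
      · exact h6
      · exact absurd hp.out (h6 ▸ by norm_num)
    subst h3
    rcases GmnSpor.spor_three hp2 hd h with h | h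
    · exact h
    rcases h with h | h | h | h | h | h | h | h | h | h | h | h | h | h | h
    · exact GmnJThree.j3 h
    · exact H711.RowsA.co1 h
    · exact H711.RowsB.co2 h
    · exact M.co3 X h
    · exact H711.RowsB.mcl h
    · exact H711.RowsA.suz h
    · exact GmnON.on h
    · exact H711.RowsB.ly h
    · exact H711.RowsA.fi22 h
    · exact H711.RowsB.fi23 h
    · exact M.fi24 X h
    · exact GmnHN.hn h
    · exact M.th X h
    · exact H711.RowsB.b h
    · exact H711.RowsA.m h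

theorem rows (hp2 : p ≠ 2) (M : Miss p) : Rows p where
  alt := alt hp2
  lie X _ _ _ hna h := lie hp2 X hna h
  oodd := oodd hp2
  oplus := oplus hp2
  ominus := ominus hp2
  g2 := g2 hp2
  f4 := f4 hp2
  e6 := e6 hp2
  e7 := e7 hp2
  e8 := e8 hp2
  te6 := M.te6
  td4 := td4 hp2
  sz X _ _ _ hna hd h := H507.GmnTwF.rowS_suzuki hp2 hna hd h
  ree hp3 X _ _ _ hna hd h := H507.GmnTwF.rowS_ree hp2 hp3 hna hd h
  tf4 X _ _ _ hna hd h := H507.GmnTwF.rowS_2F4 hp2 hna hd h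
  tits X _ _ _ _ hd h := GmnSpor.tits hp2 hd h
  spor := spor hp2 M

end Cfsg.Agent.H712.GmnRows
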