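import Mathlib
import Cfsg.Agent.H712.GmnRows
import Cfsg.Agent.H711.RowCo3
import Cfsg.Agent.H711.FiTFRow
import Cfsg.Agent.H663.GmnTh
import Cfsg.Agent.H663.GmnMain
import Cfsg.Agent.H696.GmnRowsTab
import Cfsg.Agent.S0000

/-!
# The table of the Guralnick–Malle–Navarro theorem, `p` odd (helper712)

`goal` : every finite nonabelian simple group of order divisible by the odd prime `p` satisfies `RowS p`, or `p = 3`
and it is `PSL₂(3^f)`, `f > 1`.  (Rows by helper142, helper507, helper663, helper681, helper696, helper709, helper711.)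
-/

set_option autoImplicit false

namespace Cfsg.Agent.H712.GmnTab

open Cfsg Cfsg.Agent.H712.Gmn Cfsg.Agent.H712.GmnTable Cfsg.Agent.H712.GmnRows

universe u

variable {p : ℕ} [hp : Fact p.Prime]

theorem miss (hp2 : p ≠ 2) : Miss p where
  te6 := H696.GmnRowsTab.te6 hp2
  co3 _ _ _ _ h := H711.RowCo3.co3 h
  fi24 _ _ _ _ h := H711.FiTFRow.fi24 h
  th _ _ _ _ h := H663.GmnTh.th h

/-- **the table** -/
theorem goal (hp2 : p ≠ 2) {S : Type u} [Group S] [Finite S] [IsSimpleGroup S] (hna : ¬ IsMulCommutative S)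
    (hd : p ∣ Nat.card S) : Goal p S :=
  (rows hp2 (miss hp2)).goal hp2 hna hd Cfsg.Agent.S0000.result

/-- in the form used by `H663/GmnMain` -/
theorem tab (hp2 : p ≠ 2) : H663.GmnStep.Tab.{u} p := by
  intro S _ _ hS hna hd
  exact goal hp2 (fun h => hna fun a b => h.is_comm.comm a b) hd

end Cfsg.Agent.H712.GmnTab
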